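import Mathlib

/-!
A subgroup `H` with `O = O₂(H)` and `H/O` dihedral of order `2n` (`n` odd), a Sylow `2`-subgroup `P`
and an element `y` normalising `P` but no non-trivial subgroup of `P` normal in `H`: first facts.
-/

set_option autoImplicit false
set_option linter.style.haveILetI false
set_option linter.unusedSectionVars false

namespace CfsgLib.Push85

open scoped commutatorElement

variable {G : Type*} [Group G]

/-- Conjugate of a subgroup. -/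
def cj (g : G) (A : Subgroup G) : Subgroup G := A.map (MulAut.conj g).toMonoidHom

theorem mem_cj {g x : G} {A : Subgroup G} : x ∈ cj g A ↔ g⁻¹ * x * g ∈ A := by
  constructor
  · rintro ⟨a, ha, rfl⟩
    simpa [mul_assoc] using ha
  · intro h
    exact ⟨_, h, by simp [mul_assoc]⟩

theorem conj_mem_cj {g x : G} {A : Subgroup G} (h : x ∈ A) : g * x * g⁻¹ ∈ cj g A :=
  ⟨x, h, rfl⟩

theorem cj_mul (g h : G) (A : Subgroup G) : cj (g * h) A = cj g (cj h A) := by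
  ext x; simp only [mem_cj, mul_inv_rev, mul_assoc]

theorem cj_one (A : Subgroup G) : cj (1 : G) A = A := by ext x; simp [mem_cj]

theorem cj_mono {g : G} {A B : Subgroup G} (h : A ≤ B) : cj g A ≤ cj g B := Subgroup.map_mono h

theorem cj_inj {g : G} {A B : Subgroup G} (h : cj g A = cj g B) : A = B :=
  Subgroup.map_injective (MulAut.conj g).injective h

theorem cj_le_iff {g : G} {A B : Subgroup G} : cj g A ≤ cj g B ↔ A ≤ B :=
  Subgroup.map_le_map_iff_of_injective (MulAut.conj g).injective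

theorem cj_inv_cj (g : G) (A : Subgroup G) : cj g⁻¹ (cj g A) = A := by
  rw [← cj_mul, inv_mul_cancel, cj_one]

theorem cj_cj_inv (g : G) (A : Subgroup G) : cj g (cj g⁻¹ A) = A := by
  rw [← cj_mul, mul_inv_cancel, cj_one]

theorem cj_sup (g : G) (A B : Subgroup G) : cj g (A ⊔ B) = cj g A ⊔ cj g B := Subgroup.map_sup ..

theorem cj_inf (g : G) (A B : Subgroup G) : cj g (A ⊓ B) = cj g A ⊓ cj g B :=
  Subgroup.map_inf _ _ _ (MulAut.conj g).injective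

theorem cj_bot (g : G) : cj g (⊥ : Subgroup G) = ⊥ := Subgroup.map_bot _

theorem cj_commutator (g : G) (A B : Subgroup G) : cj g ⁅A, B⁆ = ⁅cj g A, cj g B⁆ :=
  Subgroup.map_commutator ..

theorem cj_eq_of_mem {g : G} {A : Subgroup G} (h : g ∈ A) : cj g A = A := by
  ext x
  rw [mem_cj]
  refine ⟨fun hx => ?_, fun hx => mul_mem (mul_mem (inv_mem h) hx) h⟩
  have := mul_mem (mul_mem h hx) (inv_mem h)
  simpa [mul_assoc] using this

theorem cj_inv_of_eq {g : G} {A : Subgroup G} (h : cj g A = A) : cj g⁻¹ A = A := by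
  conv_lhs => rw [← h]
  exact cj_inv_cj g A

/-- An element of odd order is a power of its square. -/
theorem exists_pow_sq {x : G} (h : Odd (orderOf x)) : ∃ m : ℕ, (x ^ 2) ^ m = x :=
  exists_pow_eq_self_of_coprime (Nat.coprime_two_left.2 h)

/-- The setting. -/
structure Setting (G : Type*) [Group G] where
  H : Subgroup G
  O : Subgroup G
  P : Subgroup G
  y : G
  c : G
  n : ℕ
  n_three : 3 ≤ n
  n_odd : Odd n
  O_ne : O ≠ ⊥
  O_le : O ≤ P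
  P_le : P ≤ H
  isP : IsPGroup 2 P
  O_normal : ∀ h ∈ H, cj h O = O
  P_out : ∃ t ∈ P, t ∉ O
  P_two : ∀ a ∈ P, ∀ b ∈ P, a ∉ O → b ∉ O → a * b ∈ O
  c_mem : c ∈ H
  c_odd : Odd (orderOf c)
  c_period : ∀ k : ℕ, c ^ k ∈ O ↔ n ∣ k
  decomp : ∀ h ∈ H, ∃ k : ℕ, ∃ p ∈ P, h = c ^ k * p
  inverts : ∀ s ∈ P, s ∉ O → s * c * s⁻¹ * c ∈ O
  y_P : cj y P = P
  y_sq : ∃ p ∈ P, ∀ a ∈ P, y * (y * a * y⁻¹) * y⁻¹ = p * a * p⁻¹
  hyQ : ∀ Q : Subgroup G, Q ≤ P → (∀ h ∈ H, cj h Q = Q) → cj y Q = Q → Q = ⊥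

namespace Setting

variable (S : Setting G)

theorem O_le_H : S.O ≤ S.H := S.O_le.trans S.P_le

theorem O_conj {h o : G} (hh : h ∈ S.H) (ho : o ∈ S.O) : h * o * h⁻¹ ∈ S.O := by
  have h' := conj_mem_cj (g := h) ho
  rwa [S.O_normal h hh] at h'

theorem O_conj' {h o : G} (hh : h ∈ S.H) (ho : o ∈ S.O) : h⁻¹ * o * h ∈ S.O := by
  simpa using S.O_conj (inv_mem hh) ho

theorem out_mul {p o : G} (hpO : p ∉ S.O) (ho : o ∈ S.O) : o * p ∉ S.O := fun h =>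
  hpO (by simpa using mul_mem (inv_mem ho) h)

theorem sq_mem {p : G} (hp : p ∈ S.P) : p * p ∈ S.O := by
  by_cases h : p ∈ S.O
  · exact mul_mem h h
  · exact S.P_two p hp p hp h h

theorem c_pos : 0 < orderOf S.c := S.c_odd.pos

/-- The rotations. -/
def rot : Subgroup G where
  carrier := {h | ∃ k : ℕ, ∃ o ∈ S.O, h = S.c ^ k * o}
  one_mem' := ⟨0, 1, S.O.one_mem, by simp⟩
  mul_mem' := by
    rintro _ _ ⟨k, o, ho, rfl⟩ ⟨l, o', ho', rfl⟩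
    refine ⟨k + l, ((S.c ^ l)⁻¹ * o * S.c ^ l) * o',
      mul_mem (S.O_conj' (pow_mem S.c_mem l) ho) ho', ?_⟩
    rw [pow_add]; group
  inv_mem' := by
    rintro _ ⟨k, o, ho, rfl⟩
    obtain ⟨l, hl⟩ : ∃ l : ℕ, S.c ^ l = (S.c ^ k)⁻¹ := by
      refine ⟨(orderOf S.c - 1) * k, eq_inv_of_mul_eq_one_left ?_⟩
      have h := Nat.succ_mul (orderOf S.c - 1) k
      rw [Nat.succ_eq_add_one, Nat.sub_add_cancel S.c_pos] at h
      rw [← pow_add, ← h, pow_mul, pow_orderOf_eq_one, one_pow]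
    refine ⟨l, S.c ^ k * o⁻¹ * (S.c ^ k)⁻¹, S.O_conj (pow_mem S.c_mem k) (inv_mem ho), ?_⟩
    rw [hl]; group

theorem mem_rot {h : G} : h ∈ S.rot ↔ ∃ k : ℕ, ∃ o ∈ S.O, h = S.c ^ k * o := Iff.rfl

theorem O_le_rot : S.O ≤ S.rot := fun o ho => ⟨0, o, ho, by simp⟩

theorem c_mem_rot : S.c ∈ S.rot := ⟨1, 1, S.O.one_mem, by simp⟩

theorem rot_le : S.rot ≤ S.H := by
  rintro _ ⟨k, o, ho, rfl⟩
  exact mul_mem (pow_mem S.c_mem k) (S.O_le_H ho)

theorem mem_O_of_pow {g : G} (hg : g ∈ S.rot) {i : ℕ} (h : g ^ 2 ^ i = 1) : g ∈ S.O := by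
  obtain ⟨k, o, ho, rfl⟩ := hg
  have key : ∀ m : ℕ, ∃ o' ∈ S.O, (S.c ^ k * o) ^ m = S.c ^ (k * m) * o' := by
    intro m
    induction m with
    | zero => exact ⟨1, S.O.one_mem, by simp⟩
    | succ m ih =>
      obtain ⟨o', ho', e⟩ := ih
      refine ⟨((S.c ^ k)⁻¹ * o' * S.c ^ k) * o, mul_mem (S.O_conj' (pow_mem S.c_mem k) ho') ho, ?_⟩
      rw [pow_succ, e, mul_add, mul_one, pow_add]; group
  obtain ⟨o', ho', e⟩ := key (2 ^ i)
  rw [h] at e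
  have hk : S.c ^ (k * 2 ^ i) ∈ S.O := by
    rw [eq_inv_of_mul_eq_one_left e.symm]; exact inv_mem ho'
  have hn : S.n ∣ k :=
    (Nat.Coprime.pow_right i (Nat.coprime_two_right.2 S.n_odd)).dvd_of_dvd_mul_right
      ((S.c_period _).1 hk)
  exact mul_mem ((S.c_period k).2 hn) ho

theorem not_mem_rot {p : G} (hp : p ∈ S.P) (hpO : p ∉ S.O) : p ∉ S.rot := by
  intro h
  obtain ⟨i, hi⟩ := S.isP ⟨p, hp⟩
  exact hpO (S.mem_O_of_pow h (i := i) (by simpa using congrArg Subtype.val hi))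

theorem c_conj_out {p : G} (hp : p ∈ S.P) (hpO : p ∉ S.O) :
    ∀ m : ℕ, ∃ o ∈ S.O, p * S.c ^ m * p⁻¹ = o * (S.c ^ m)⁻¹ := by
  intro m
  induction m with
  | zero => exact ⟨1, S.O.one_mem, by simp⟩
  | succ m ih =>
    obtain ⟨o, ho, e⟩ := ih
    refine ⟨o * ((S.c ^ m)⁻¹ * (p * S.c * p⁻¹ * S.c) * S.c ^ m),
      mul_mem ho (S.O_conj' (pow_mem S.c_mem m) (S.inverts p hp hpO)), ?_⟩
    calc p * S.c ^ (m + 1) * p⁻¹ = (p * S.c ^ m * p⁻¹) * (p * S.c * p⁻¹) := by rw [pow_succ]; group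
      _ = o * (S.c ^ m)⁻¹ * (p * S.c * p⁻¹) := by rw [e]
      _ = _ := by rw [pow_succ']; group

theorem mul_out_mem_rot {a b : G} (ha : a ∈ S.H) (hb : b ∈ S.H) (har : a ∉ S.rot)
    (hbr : b ∉ S.rot) : a * b ∈ S.rot := by
  obtain ⟨k, p, hp, rfl⟩ := S.decomp a ha
  obtain ⟨l, q, hq, rfl⟩ := S.decomp b hb
  have hpO : p ∉ S.O := fun h => har ⟨k, p, h, rfl⟩
  have hqO : q ∉ S.O := fun h => hbr ⟨l, q, h, rfl⟩
  obtain ⟨o, ho, e⟩ := S.c_conj_out hp hpO l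
  have e' : S.c ^ k * p * (S.c ^ l * q) = S.c ^ k * (o * (S.c ^ l)⁻¹) * (p * q) := by
    rw [← e]; group
  rw [e']
  exact mul_mem (mul_mem (pow_mem S.c_mem_rot k)
    (mul_mem (S.O_le_rot ho) (inv_mem (pow_mem S.c_mem_rot l))))
    (S.O_le_rot (S.P_two p hp q hq hpO hqO))

/-- The `2`-subgroups of `H` meet `O` in index at most two. -/
theorem two_group_mul {T : Subgroup G} (hT : IsPGroup 2 T) (hTH : T ≤ S.H) {a b : G} (ha : a ∈ T)
    (hb : b ∈ T) (haO : a ∉ S.O) (hbO : b ∉ S.O) : a * b ∈ S.O := by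
  have key : ∀ g ∈ T, g ∈ S.rot → g ∈ S.O := fun g hg hr => by
    obtain ⟨i, hi⟩ := hT ⟨g, hg⟩
    exact S.mem_O_of_pow hr (i := i) (by simpa using congrArg Subtype.val hi)
  exact key _ (mul_mem ha hb) (S.mul_out_mem_rot (hTH ha) (hTH hb) (fun h => haO (key a ha h))
    (fun h => hbO (key b hb h)))

theorem out_of_two {T : Subgroup G} (hT : IsPGroup 2 T) {a : G} (ha : a ∈ T) (haO : a ∉ S.O) :
    a ∉ S.rot := fun hr => by
  obtain ⟨i, hi⟩ := hT ⟨a, ha⟩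
  exact haO (S.mem_O_of_pow hr (i := i) (by simpa using congrArg Subtype.val hi))

theorem exists_half (k : ℕ) : ∃ j : ℕ, S.n ∣ k + (S.n - 1) * (2 * j) := by
  obtain ⟨r, hr⟩ := S.n_odd
  refine ⟨k * (r + 1), k * (2 * r + 1), ?_⟩
  rw [hr, Nat.add_sub_cancel]
  ring

theorem exists_half' (k : ℕ) : ∃ j : ℕ, (S.c ^ k)⁻¹ * S.c ^ (2 * j) ∈ S.O := by
  obtain ⟨j, m, hm⟩ := S.exists_half k
  refine ⟨j, ?_⟩
  have h1 : S.c ^ (k + (S.n - 1) * (2 * j)) ∈ S.O := (S.c_period _).2 ⟨m, hm⟩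
  have h2 : S.c ^ (S.n * (2 * j)) ∈ S.O := (S.c_period _).2 ⟨2 * j, rfl⟩
  have hn : S.n * (2 * j) = (S.n - 1) * (2 * j) + 2 * j := by
    have := S.n_three
    conv_lhs => rw [show S.n = S.n - 1 + 1 by omega]
    rw [Nat.add_mul, one_mul]
  have e : (S.c ^ k)⁻¹ * S.c ^ (2 * j) =
      (S.c ^ (k + (S.n - 1) * (2 * j)))⁻¹ * S.c ^ (S.n * (2 * j)) := by
    rw [hn, pow_add, pow_add]; group
  rw [e]
  exact mul_mem (inv_mem h1) h2

theorem exists_conj_of_out {s : G} (hs : s ∈ S.H) (hsr : s ∉ S.rot) :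
    ∃ j : ℕ, ∃ p ∈ S.P, p ∉ S.O ∧ s = S.c ^ j * p * (S.c ^ j)⁻¹ := by
  obtain ⟨k, p, hp, rfl⟩ := S.decomp s hs
  have hpO : p ∉ S.O := fun h => hsr ⟨k, p, h, rfl⟩
  obtain ⟨j, hj⟩ := S.exists_half' k
  obtain ⟨o, ho, e⟩ := S.c_conj_out hp hpO j
  have e1 : p * (S.c ^ j)⁻¹ * p⁻¹ = S.c ^ j * o⁻¹ := by
    calc p * (S.c ^ j)⁻¹ * p⁻¹ = (p * S.c ^ j * p⁻¹)⁻¹ := by group
      _ = _ := by rw [e]; group
  -- `c^k p` differs from `c^j p c^-j` by an element of `O` on the left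
  have e2 : S.c ^ j * p * (S.c ^ j)⁻¹ = S.c ^ k * ((S.c ^ k)⁻¹ * S.c ^ (2 * j) * o⁻¹) * p := by
    calc S.c ^ j * p * (S.c ^ j)⁻¹ = S.c ^ j * (p * (S.c ^ j)⁻¹ * p⁻¹) * p := by group
      _ = _ := by rw [e1, two_mul, pow_add]; group
  set d := (S.c ^ k)⁻¹ * S.c ^ (2 * j) * o⁻¹ with hd
  have hdO : d ∈ S.O := mul_mem hj (inv_mem ho)
  refine ⟨j, (S.c ^ j)⁻¹ * (S.c ^ k * d⁻¹ * (S.c ^ k)⁻¹) * S.c ^ j * p,
    mul_mem (S.O_le (S.O_conj' (pow_mem S.c_mem j) (S.O_conj (pow_mem S.c_mem k) (inv_mem hdO)))) hp,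
    S.out_mul hpO (S.O_conj' (pow_mem S.c_mem j) (S.O_conj (pow_mem S.c_mem k) (inv_mem hdO))), ?_⟩
  calc S.c ^ k * p = S.c ^ k * d⁻¹ * (S.c ^ k)⁻¹ * (S.c ^ k * d * p) := by group
    _ = S.c ^ k * d⁻¹ * (S.c ^ k)⁻¹ * (S.c ^ j * p * (S.c ^ j)⁻¹) := by rw [e2]
    _ = _ := by group

/-- A subgroup normal in `H`. -/
theorem cj_H_eq {A : Subgroup G} (hc : cj S.c A = A) (hP : ∀ p ∈ S.P, cj p A = A) :
    ∀ h ∈ S.H, cj h A = A := by
  intro h hh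
  obtain ⟨k, p, hp, rfl⟩ := S.decomp h hh
  rw [cj_mul, hP p hp]
  clear hh
  induction k with
  | zero => rw [pow_zero, cj_one]
  | succ k ih => rw [pow_succ, cj_mul, hc, ih]

theorem cj_c_pow {A : Subgroup G} (hc : cj S.c A = A) : ∀ k : ℕ, cj (S.c ^ k) A = A := by
  intro k
  induction k with
  | zero => rw [pow_zero, cj_one]
  | succ k ih => rw [pow_succ, cj_mul, hc, ih]

theorem P_cj {p : G} (hp : p ∈ S.P) : cj p S.P = S.P := cj_eq_of_mem hp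

theorem y_mem {a : G} (ha : a ∈ S.P) : S.y * a * S.y⁻¹ ∈ S.P := by
  have h := conj_mem_cj (g := S.y) ha
  rwa [S.y_P] at h

/-- `y²` fixes the subgroups normal in `P`. -/
theorem y_y {A : Subgroup G} (hA : A ≤ S.P) (hn : ∀ p ∈ S.P, cj p A = A) :
    cj S.y (cj S.y A) = A := by
  obtain ⟨p, hp, h⟩ := S.y_sq
  refine le_antisymm ?_ ?_
  · rintro _ ⟨_, ⟨a, ha, rfl⟩, rfl⟩
    show S.y * (S.y * a * S.y⁻¹) * S.y⁻¹ ∈ A
    rw [h a (hA ha), ← hn p hp]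
    exact conj_mem_cj ha
  · intro a ha
    have ha' : p⁻¹ * a * p ∈ A := by
      have := (hn p hp).ge ha
      rwa [mem_cj] at this
    have e : a = S.y * (S.y * (p⁻¹ * a * p) * S.y⁻¹) * S.y⁻¹ := by
      rw [h _ (hA ha')]; group
    rw [e]
    exact conj_mem_cj (conj_mem_cj ha')

theorem y_inv {A : Subgroup G} (hA : A ≤ S.P) (hn : ∀ p ∈ S.P, cj p A = A) :
    cj S.y⁻¹ A = cj S.y A := by
  conv_lhs => rw [← S.y_y hA hn]
  exact cj_inv_cj _ _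

theorem cj_y_normal {A : Subgroup G} (hn : ∀ p ∈ S.P, cj p A = A) :
    ∀ p ∈ S.P, cj p (cj S.y A) = cj S.y A := by
  intro p hp
  have hq : S.y⁻¹ * p * S.y ∈ S.P := by
    have := S.y_P.ge hp
    rwa [mem_cj] at this
  rw [← cj_mul, show p * S.y = S.y * (S.y⁻¹ * p * S.y) by group, cj_mul, hn _ hq]

theorem O_P_normal : ∀ p ∈ S.P, cj p S.O = S.O := fun p hp => S.O_normal p (S.P_le hp)

theorem y_O_ne : cj S.y S.O ≠ S.O := fun h => S.O_ne (S.hyQ S.O S.O_le S.O_normal h)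

theorem y_O_le : cj S.y S.O ≤ S.P := (cj_mono S.O_le).trans S.y_P.le

theorem exists_out_yO : ∃ t ∈ cj S.y S.O, t ∉ S.O := by
  by_contra! h
  refine S.y_O_ne (le_antisymm h ?_)
  have h2 : cj S.y (cj S.y S.O) ≤ cj S.y S.O := cj_mono h
  rwa [S.y_y S.O_le S.O_P_normal] at h2

/-- The rotation centralises `O`. -/
def CommC : Prop := ∀ o ∈ S.O, S.c * o = o * S.c

/-- If some element of `P` outside `O` centralises `O`, so does the rotation. -/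
theorem commC_of_out {z : G} (hz : z ∈ S.P) (hzO : z ∉ S.O)
    (hzc : ∀ o ∈ S.O, z * o = o * z) : S.CommC := by
  set o₁ := z * S.c * z⁻¹ * S.c with ho₁
  have ho₁O : o₁ ∈ S.O := S.inverts z hz hzO
  have key : ∀ o ∈ S.O, S.c * o * S.c⁻¹ = o₁ * (S.c⁻¹ * o * S.c) * o₁⁻¹ := by
    intro o ho
    have h1 := hzc _ (S.O_conj S.c_mem ho)
    have h2 := hzc o ho
    calc S.c * o * S.c⁻¹ = z * (S.c * o * S.c⁻¹) * z⁻¹ := by rw [h1]; group
      _ = (z * S.c * z⁻¹) * (z * o * z⁻¹) * (z * S.c * z⁻¹)⁻¹ := by group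
      _ = (z * S.c * z⁻¹) * o * (z * S.c * z⁻¹)⁻¹ := by rw [h2]; group
      _ = _ := by rw [ho₁]; group
  set q := S.c * o₁ * S.c⁻¹ with hq
  have hqO : q ∈ S.O := S.O_conj S.c_mem ho₁O
  have key2 : ∀ o ∈ S.O, S.c ^ 2 * o * (S.c ^ 2)⁻¹ = q * o * q⁻¹ := by
    intro o ho
    calc S.c ^ 2 * o * (S.c ^ 2)⁻¹ = S.c * (S.c * o * S.c⁻¹) * S.c⁻¹ := by rw [pow_two]; group
      _ = S.c * (o₁ * (S.c⁻¹ * o * S.c) * o₁⁻¹) * S.c⁻¹ := by rw [← key o ho]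
      _ = _ := by rw [hq]; group
  set d := q⁻¹ * S.c ^ 2 with hd
  have hdc : ∀ o ∈ S.O, Commute d o := by
    intro o ho
    have h := key2 o ho
    show d * o = o * d
    calc d * o = q⁻¹ * (S.c ^ 2 * o * (S.c ^ 2)⁻¹) * S.c ^ 2 := by rw [hd]; group
      _ = q⁻¹ * (q * o * q⁻¹) * S.c ^ 2 := by rw [h]
      _ = _ := by rw [hd]; group
  obtain ⟨i, hi⟩ := S.isP ⟨q, S.O_le hqO⟩
  have hqi : q ^ 2 ^ i = 1 := by simpa using congrArg Subtype.val hi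
  have hc2 : (S.c ^ 2) ^ 2 ^ i = d ^ 2 ^ i := by
    rw [show S.c ^ 2 = q * d by rw [hd]; group, (hdc q hqO).symm.mul_pow, hqi, one_mul]
  obtain ⟨m, hm⟩ : ∃ m, ((S.c ^ 2) ^ 2 ^ i) ^ m = S.c := by
    rw [← pow_mul, ← pow_succ']
    exact exists_pow_eq_self_of_coprime (Nat.Coprime.pow_left _ (Nat.coprime_two_left.2 S.c_odd))
  intro o ho
  have h := (hdc o ho).pow_left (2 ^ i) |>.pow_left m
  rw [← hc2, hm] at h
  exact h

/-- `Ω₁(Z(P))`. -/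
def Z : Subgroup G where
  carrier := {v | v ∈ S.P ∧ v * v = 1 ∧ ∀ a ∈ S.P, v * a = a * v}
  one_mem' := ⟨S.P.one_mem, one_mul _, fun a _ => by simp⟩
  mul_mem' := by
    rintro u v ⟨hu, hu2, huc⟩ ⟨hv, hv2, hvc⟩
    refine ⟨mul_mem hu hv, ?_, fun a ha => ?_⟩
    · calc u * v * (u * v) = u * (v * u) * v := by group
        _ = (u * u) * (v * v) := by rw [hvc u hu]; group
        _ = 1 := by rw [hu2, hv2, one_mul]
    · rw [mul_assoc, hvc a ha, ← mul_assoc, huc a ha, mul_assoc]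
  inv_mem' := by
    rintro u ⟨hu, hu2, huc⟩
    rw [inv_eq_of_mul_eq_one_right hu2]
    exact ⟨hu, hu2, huc⟩

/-- `Ω₁(Z(O))`. -/
def V : Subgroup G where
  carrier := {v | v ∈ S.O ∧ v * v = 1 ∧ ∀ a ∈ S.O, v * a = a * v}
  one_mem' := ⟨S.O.one_mem, one_mul _, fun a _ => by simp⟩
  mul_mem' := by
    rintro u v ⟨hu, hu2, huc⟩ ⟨hv, hv2, hvc⟩
    refine ⟨mul_mem hu hv, ?_, fun a ha => ?_⟩
    · calc u * v * (u * v) = u * (v * u) * v := by group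
        _ = (u * u) * (v * v) := by rw [hvc u hu]; group
        _ = 1 := by rw [hu2, hv2, one_mul]
    · rw [mul_assoc, hvc a ha, ← mul_assoc, huc a ha, mul_assoc]
  inv_mem' := by
    rintro u ⟨hu, hu2, huc⟩
    rw [inv_eq_of_mul_eq_one_right hu2]
    exact ⟨hu, hu2, huc⟩

theorem V_le : S.V ≤ S.O := fun _ h => h.1

theorem V_inv {v : G} (h : v ∈ S.V) : v⁻¹ = v := inv_eq_of_mul_eq_one_right h.2.1

theorem V_comm {v a : G} (h : v ∈ S.V) (ha : a ∈ S.O) : v * a = a * v := h.2.2 a ha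

theorem V_conj {h v : G} (hh : h ∈ S.H) (hv : v ∈ S.V) : h * v * h⁻¹ ∈ S.V := by
  refine ⟨S.O_conj hh hv.1, ?_, fun a ha => ?_⟩
  · calc h * v * h⁻¹ * (h * v * h⁻¹) = h * (v * v) * h⁻¹ := by group
      _ = 1 := by rw [hv.2.1]; group
  · have := hv.2.2 _ (S.O_conj' hh ha)
    calc h * v * h⁻¹ * a = h * (v * (h⁻¹ * a * h)) * h⁻¹ := by group
      _ = h * ((h⁻¹ * a * h) * v) * h⁻¹ := by rw [this]
      _ = _ := by group

theorem V_normal : ∀ h ∈ S.H, cj h S.V = S.V := by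
  intro h hh
  refine le_antisymm ?_ fun v hv => ?_
  · rintro _ ⟨v, hv, rfl⟩; exact S.V_conj hh hv
  · rw [mem_cj]; simpa using S.V_conj (inv_mem hh) hv

theorem Z_y : cj S.y S.Z = S.Z := by
  have key : ∀ g : G, cj g S.P = S.P → ∀ v ∈ S.Z, g * v * g⁻¹ ∈ S.Z := by
    intro g hg v hv
    have hmem : ∀ a ∈ S.P, g * a * g⁻¹ ∈ S.P := fun a ha => hg ▸ conj_mem_cj ha
    refine ⟨hmem v hv.1, ?_, fun a ha => ?_⟩
    · calc g * v * g⁻¹ * (g * v * g⁻¹) = g * (v * v) * g⁻¹ := by group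
        _ = 1 := by rw [hv.2.1]; group
    · have ha' : g⁻¹ * a * g ∈ S.P := mem_cj.1 (hg.ge ha)
      calc g * v * g⁻¹ * a = g * (v * (g⁻¹ * a * g)) * g⁻¹ := by group
        _ = g * ((g⁻¹ * a * g) * v) * g⁻¹ := by rw [hv.2.2 _ ha']
        _ = _ := by group
  refine le_antisymm ?_ fun v hv => ?_
  · rintro _ ⟨v, hv, rfl⟩; exact key S.y S.y_P v hv
  · rw [mem_cj]; simpa using key S.y⁻¹ (cj_inv_of_eq S.y_P) v hv

theorem Z_le_P : S.Z ≤ S.P := fun _ h => h.1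

theorem Z_le (hcc : ¬ S.CommC) : S.Z ≤ S.O := by
  intro z hz
  by_contra hzO
  exact hcc (S.commC_of_out hz.1 hzO fun o ho => hz.2.2 o (S.O_le ho))

theorem Z_le_V (hcc : ¬ S.CommC) : S.Z ≤ S.V :=
  fun _ hz => ⟨S.Z_le hcc hz, hz.2.1, fun a ha => hz.2.2 a (S.O_le ha)⟩

theorem Z_ne [Finite G] : S.Z ≠ ⊥ := by
  haveI : Fact (Nat.Prime 2) := ⟨Nat.prime_two⟩
  haveI : Nontrivial S.P := by
    obtain ⟨t, ht, htO⟩ := S.P_out
    exact ⟨⟨⟨t, ht⟩, 1, fun h => htO (by rw [show t = 1 from congrArg Subtype.val h]; exact one_mem _)⟩⟩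
  haveI := S.isP.center_nontrivial
  obtain ⟨k, hk⟩ := IsPGroup.iff_card.1 (S.isP.to_subgroup (Subgroup.center S.P))
  have hk0 : k ≠ 0 := fun h => by
    have := Finite.one_lt_card (α := Subgroup.center S.P)
    rw [hk, h, pow_zero] at this
    exact lt_irrefl 1 this
  obtain ⟨⟨⟨z, hzP⟩, hzc⟩, hzo⟩ := exists_prime_orderOf_dvd_card' 2 (G := Subgroup.center S.P)
    (by rw [hk]; exact dvd_pow_self 2 hk0)
  rw [Subgroup.orderOf_mk, Subgroup.orderOf_mk] at hzo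
  intro h
  have hz : z ∈ S.Z := ⟨hzP, by rw [← pow_two, ← hzo, pow_orderOf_eq_one],
    fun a ha => (congrArg Subtype.val (Subgroup.mem_center_iff.1 hzc ⟨a, ha⟩)).symm⟩
  rw [h, Subgroup.mem_bot] at hz
  rw [hz, orderOf_one] at hzo
  exact absurd hzo (by norm_num)

theorem c_moves_Z [Finite G] : ∃ z ∈ S.Z, S.c * z * S.c⁻¹ ≠ z := by
  by_contra! h
  refine S.Z_ne (S.hyQ S.Z S.Z_le_P (S.cj_H_eq ?_ ?_) S.Z_y)
  · ext x
    rw [mem_cj]
    refine ⟨fun hx => ?_, fun hx => ?_⟩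
    · have := h _ hx
      have e : x = S.c⁻¹ * x * S.c := by
        calc x = S.c * (S.c⁻¹ * x * S.c) * S.c⁻¹ := by group
          _ = _ := this
      rwa [e]
    · have e : S.c⁻¹ * x * S.c = x := by
        calc S.c⁻¹ * x * S.c = S.c⁻¹ * (S.c * x * S.c⁻¹) * S.c := by rw [h x hx]
          _ = x := by group
      rwa [e]
  · intro p hp
    ext x
    rw [mem_cj]
    constructor
    · intro hx
      have e : x = p⁻¹ * x * p := by
        calc x = p * (p⁻¹ * x * p) * p⁻¹ := by group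
          _ = p⁻¹ * x * p := by rw [← hx.2.2 p hp]; group
      rwa [e]
    · intro hx
      have e : p⁻¹ * x * p = x := by rw [mul_assoc, hx.2.2 p hp]; group
      rwa [e]

end Setting

end CfsgLib.Push85
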