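import Cfsg.Agent.Lib.Push85.Module

/-!
Critical paths: `V = Ω₁(Z(O))` is not contained in the image of `O` under `y`.
-/

set_option autoImplicit false
set_option linter.style.haveILetI false
set_option linter.unusedSectionVars false

namespace CfsgLib.Push85

open scoped commutatorElement

variable {G : Type*} [Group G]

theorem isPGroup_cj {g : G} {A : Subgroup G} (h : IsPGroup 2 A) : IsPGroup 2 (cj g A) := h.map _

theorem cj_eq_of_le {g : G} {A : Subgroup G} (h : cj g A ≤ A) (h' : cj g⁻¹ A ≤ A) : cj g A = A := by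
  refine le_antisymm h ?_
  conv_lhs => rw [← cj_cj_inv g A]
  exact cj_mono h'

theorem cj_pow_eq {g : G} {A : Subgroup G} (h : cj g A = A) : ∀ m : ℕ, cj (g ^ m) A = A := by
  intro m
  induction m with
  | zero => rw [pow_zero, cj_one]
  | succ m ih => rw [pow_succ, cj_mul, h, ih]

namespace Setting

variable (S : Setting G)

theorem mem_Z_of_fix {p v : G} (hp : p ∈ S.P) (hpO : p ∉ S.O) (hv : v ∈ S.V)
    (h : p * v = v * p) : v ∈ S.Z := by
  refine ⟨S.O_le hv.1, hv.2.1, fun a ha => ?_⟩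
  by_cases haO : a ∈ S.O
  · exact S.V_comm hv haO
  · have h1 := S.V_comm hv (S.P_two p hp a ha hpO haO)
    calc v * a = p⁻¹ * ((p * v) * a) := by group
      _ = p⁻¹ * (v * (p * a)) := by rw [h]; group
      _ = p⁻¹ * (p * a * v) := by rw [h1]
      _ = a * v := by group

theorem V_ne [Finite G] (hcc : ¬ S.CommC) : S.V ≠ ⊥ := fun h =>
  S.Z_ne (le_bot_iff.1 (h ▸ S.Z_le_V hcc))

theorem exists_moved [Finite G] (hcc : ¬ S.CommC) {s : G} (hs : s ∈ S.H) (hsr : s ∉ S.rot) :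
    ∃ v ∈ S.V, s * v ≠ v * s := by
  by_contra! h
  obtain ⟨j, p, hp, hpO, rfl⟩ := S.exists_conj_of_out hs hsr
  have e : S.Z = S.V := by
    refine le_antisymm (S.Z_le_V hcc) fun v hv => S.mem_Z_of_fix hp hpO hv ?_
    have h1 := h _ (S.V_conj (pow_mem S.c_mem j) hv)
    calc p * v = (S.c ^ j)⁻¹ * ((S.c ^ j * p * (S.c ^ j)⁻¹) * (S.c ^ j * v * (S.c ^ j)⁻¹)) * S.c ^ j := by group
      _ = (S.c ^ j)⁻¹ * ((S.c ^ j * v * (S.c ^ j)⁻¹) * (S.c ^ j * p * (S.c ^ j)⁻¹)) * S.c ^ j := by rw [h1]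
      _ = v * p := by group
  exact S.Z_ne (S.hyQ S.Z S.Z_le_P (e ▸ S.V_normal) S.Z_y)

theorem V_le_P : S.V ≤ S.P := S.V_le.trans S.O_le

theorem V_normal_P : ∀ p ∈ S.P, cj p S.V = S.V := fun p hp => S.V_normal p (S.P_le hp)

theorem yV_le_P : cj S.y S.V ≤ S.P := (cj_mono S.V_le_P).trans S.y_P.le

theorem W_le_V : S.W ≤ S.V := by
  refine Subgroup.commutator_le.2 fun v hv p hp => ?_
  rw [commutatorElement_def]
  have := mul_mem hv (S.V_conj (S.P_le hp) (inv_mem hv))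
  convert this using 1
  group

/-- Adjacent vertices. -/
def Adj (g g' : G) (E : Subgroup G) : Prop :=
  ∃ h₁ ∈ S.H, ∃ h₂ ∈ S.H, ∃ e : G,
    (e = S.y ∨ e = S.y⁻¹) ∧ g' = g * h₁ * e * h₂ ∧ E = cj (g * h₁) S.P

variable {S}

theorem e_eq {e : G} (he : e = S.y ∨ e = S.y⁻¹) {A : Subgroup G} (hA : A ≤ S.P)
    (hn : ∀ p ∈ S.P, cj p A = A) : cj e A = cj S.y A := by
  rcases he with rfl | rfl
  · rfl
  · exact S.y_inv hA hn

theorem e_P {e : G} (he : e = S.y ∨ e = S.y⁻¹) : cj e S.P = S.P := by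
  rw [e_eq he le_rfl fun p hp => S.P_cj hp, S.y_P]

theorem Adj.symm {g g' : G} {E : Subgroup G} (h : S.Adj g g' E) : S.Adj g' g E := by
  obtain ⟨h₁, hh₁, h₂, hh₂, e, he, rfl, rfl⟩ := h
  refine ⟨h₂⁻¹, inv_mem hh₂, h₁⁻¹, inv_mem hh₁, e⁻¹, ?_, by group, ?_⟩
  · rcases he with rfl | rfl
    · exact .inr rfl
    · exact .inl (inv_inv _)
  · rw [show g * h₁ * e * h₂ * h₂⁻¹ = g * h₁ * e by group, cj_mul (g * h₁) e, e_P he]

theorem Adj.translate {g g' : G} {E : Subgroup G} (a : G) (h : S.Adj g g' E) :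
    S.Adj (a * g) (a * g') (cj a E) := by
  obtain ⟨h₁, hh₁, h₂, hh₂, e, he, rfl, rfl⟩ := h
  exact ⟨h₁, hh₁, h₂, hh₂, e, he, by group, by rw [← cj_mul]; group⟩

theorem Adj.le_H {g g' : G} {E : Subgroup G} (h : S.Adj g g' E) : E ≤ cj g S.H := by
  obtain ⟨h₁, hh₁, h₂, hh₂, e, he, rfl, rfl⟩ := h
  rw [cj_mul]
  exact cj_mono ((cj_mono S.P_le).trans (cj_eq_of_mem hh₁).le)

theorem Adj.O_le {g g' : G} {E : Subgroup G} (h : S.Adj g g' E) : cj g S.O ≤ E := by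
  obtain ⟨h₁, hh₁, h₂, hh₂, e, he, rfl, rfl⟩ := h
  rw [cj_mul]
  exact cj_mono ((S.O_normal h₁ hh₁).ge.trans (cj_mono S.O_le))

theorem Adj.O_le' {g g' : G} {E : Subgroup G} (h : S.Adj g g' E) : cj g' S.O ≤ E := h.symm.O_le

theorem Adj.isP {g g' : G} {E : Subgroup G} (h : S.Adj g g' E) : IsPGroup 2 E := by
  obtain ⟨h₁, hh₁, h₂, hh₂, e, he, rfl, rfl⟩ := h
  exact isPGroup_cj S.isP

theorem comm_V_O {g a b : G} (ha : a ∈ cj g S.V) (hb : b ∈ cj g S.O) : a * b = b * a := by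
  rw [mem_cj] at ha hb
  have := S.V_comm ha hb
  calc a * b = g * ((g⁻¹ * a * g) * (g⁻¹ * b * g)) * g⁻¹ := by group
    _ = g * ((g⁻¹ * b * g) * (g⁻¹ * a * g)) * g⁻¹ := by rw [this]
    _ = b * a := by group

theorem two_mul_cj {g a b : G} {T : Subgroup G} (hT : IsPGroup 2 T) (hTH : T ≤ cj g S.H)
    (ha : a ∈ T) (hb : b ∈ T) (haO : a ∉ cj g S.O) (hbO : b ∉ cj g S.O) : a * b ∈ cj g S.O := by
  rw [mem_cj] at haO hbO ⊢
  have := S.two_group_mul (isPGroup_cj (g := g⁻¹) hT) (by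
    intro x hx
    have := cj_mono hTH (g := g⁻¹) hx
    rwa [cj_inv_cj] at this)
    (a := g⁻¹ * a * g) (b := g⁻¹ * b * g) (by rw [mem_cj]; simpa [mul_assoc] using ha)
    (by rw [mem_cj]; simpa [mul_assoc] using hb) haO hbO
  convert this using 1
  group

variable (S)

/-- Paths in the graph of vertices. -/
def Walk (b : ℕ) (f : ℕ → G) (Es : ℕ → Subgroup G) : Prop :=
  ∀ i < b, S.Adj (f i) (f (i + 1)) (Es i)

/-- A path whose ends do not see each other. -/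
def Bad (b : ℕ) (f : ℕ → G) (Es : ℕ → Subgroup G) : Prop :=
  S.Walk b f Es ∧ ¬ cj (f 0) S.V ≤ cj (f b) S.O

/-- There is no shorter bad path. -/
def Min (b : ℕ) : Prop :=
  2 ≤ b ∧ ∀ b' < b, ∀ f Es, S.Walk b' f Es → cj (f 0) S.V ≤ cj (f b') S.O

variable {S}

theorem Walk.translate {b : ℕ} {f : ℕ → G} {Es : ℕ → Subgroup G} (a : G) (h : S.Walk b f Es) :
    S.Walk b (fun i => a * f i) (fun i => cj a (Es i)) := fun i hi => (h i hi).translate a

theorem Bad.translate {b : ℕ} {f : ℕ → G} {Es : ℕ → Subgroup G} (a : G) (h : S.Bad b f Es) :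
    S.Bad b (fun i => a * f i) (fun i => cj a (Es i)) := by
  refine ⟨h.1.translate a, fun h' => h.2 ?_⟩
  simp only [cj_mul] at h'
  exact cj_le_iff.1 h'

/-- Prepend a vertex. -/
def cons {α : Type*} (x : α) (f : ℕ → α) : ℕ → α
  | 0 => x
  | i + 1 => f i

theorem exists_bad [Finite G] (hcc : ¬ S.CommC) : ∃ b f Es, S.Bad b f Es := by
  by_contra! hgood
  let R : Set G := {g | ∃ b f Es, S.Walk b f Es ∧ f 0 ∈ S.H ∧ f b = g}
  let N : Subgroup G := ⨅ g ∈ R, cj g S.O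
  have hmem : ∀ x, x ∈ N ↔ ∀ g ∈ R, x ∈ cj g S.O := fun x => by
    simp only [N, Subgroup.mem_iInf]
  have h1R : (1 : G) ∈ R :=
    ⟨0, fun _ => 1, fun _ => S.P, fun i hi => absurd hi (Nat.not_lt_zero i), S.H.one_mem, rfl⟩
  have hHR : ∀ h ∈ S.H, ∀ g ∈ R, h * g ∈ R := by
    rintro h hh g ⟨b, f, Es, hw, h0, rfl⟩
    exact ⟨b, _, _, hw.translate h, mul_mem hh h0, rfl⟩
  have hyR : ∀ e : G, (e = S.y ∨ e = S.y⁻¹) → ∀ g ∈ R, e * g ∈ R := by
    rintro e he g ⟨b, f, Es, hw, h0, rfl⟩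
    refine ⟨b + 1, cons 1 (fun i => e * f i), cons S.P (fun i => cj e (Es i)), ?_, S.H.one_mem, rfl⟩
    intro i hi
    match i with
    | 0 => exact ⟨1, S.H.one_mem, f 0, h0, e, he, by simp [cons], by simp [cons, cj_one]⟩
    | i + 1 => exact (hw i (by omega)).translate e
  have hinv : ∀ a : G, (∀ g ∈ R, a⁻¹ * g ∈ R) → cj a N ≤ N := by
    rintro a ha _ ⟨x, hx, rfl⟩
    rw [hmem]
    intro g hg
    have := (hmem x).1 hx _ (ha g hg)
    rw [mem_cj] at this ⊢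
    show g⁻¹ * (a * x * a⁻¹) * g ∈ S.O
    convert this using 1
    group
  have hNO : N ≤ S.O := fun x hx => by
    have := (hmem x).1 hx 1 h1R
    rwa [cj_one] at this
  have hN : N = ⊥ := by
    refine S.hyQ N (hNO.trans S.O_le) (fun h hh => cj_eq_of_le
      (hinv h (hHR _ (inv_mem hh))) (hinv _ (fun g hg => by rw [inv_inv]; exact hHR h hh g hg))) ?_
    exact cj_eq_of_le (hinv S.y (hyR _ (.inr rfl)))
      (hinv _ (fun g hg => by rw [inv_inv]; exact hyR _ (.inl rfl) g hg))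
  refine S.V_ne hcc (le_bot_iff.1 (hN ▸ fun v hv => ?_))
  rw [hmem]
  rintro g ⟨b, f, Es, hw, h0, rfl⟩
  have : cj (f 0) S.V ≤ cj (f b) S.O := by
    by_contra hne
    exact hgood b f Es ⟨hw, hne⟩
  rw [S.V_normal _ h0] at this
  exact this hv

theorem exists_min [Finite G] (hcc : ¬ S.CommC) (hV : S.V ≤ cj S.y S.O) :
    ∃ b, S.Min b ∧ ∃ f Es, S.Bad b f Es := by
  classical
  have h := exists_bad hcc
  refine ⟨Nat.find h, ⟨?_, fun b' hb' f Es hw => ?_⟩, Nat.find_spec h⟩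
  · obtain ⟨f, Es, hw, hbad⟩ := Nat.find_spec h
    by_contra hlt
    rcases Nat.lt_succ_iff.1 (not_le.1 hlt) |>.lt_or_eq with h0 | h1
    · rw [Nat.lt_one_iff.1 h0] at hbad
      exact hbad (cj_mono S.V_le)
    · rw [h1] at hbad hw
      obtain ⟨h₁, hh₁, h₂, hh₂, e, he, hf, -⟩ := hw 0 one_pos
      rw [zero_add] at hf
      apply hbad
      rw [hf, cj_mul (f 0 * h₁ * e) h₂, S.O_normal h₂ hh₂, cj_mul (f 0 * h₁) e,
        e_eq he S.O_le S.O_P_normal, cj_mul (f 0) h₁]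
      exact cj_mono ((S.V_normal h₁ hh₁).ge.trans (cj_mono hV))
  · by_contra hne
    exact Nat.find_min h hb' ⟨f, Es, hw, hne⟩

section critical

variable {b : ℕ} {f : ℕ → G} {Es : ℕ → Subgroup G}

theorem first_le (hmin : S.Min b) (hw : S.Walk b f Es) :
    cj (f 0) S.V ≤ cj (f (b - 1)) S.O :=
  hmin.2 (b - 1) (by have := hmin.1; omega) f Es fun i hi => hw i (by omega)

theorem last_le (hmin : S.Min b) (hw : S.Walk b f Es) : cj (f b) S.V ≤ cj (f 1) S.O := by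
  have hb := hmin.1
  have := hmin.2 (b - 1) (by omega) (fun i => f (b - i)) (fun i => Es (b - 1 - i)) (fun i hi => by
    have h := (hw (b - 1 - i) (by omega)).symm
    rw [show b - 1 - i + 1 = b - i by omega] at h
    show S.Adj (f (b - i)) (f (b - (i + 1))) (Es (b - 1 - i))
    rw [show b - (i + 1) = b - 1 - i by omega]
    exact h)
  rw [Nat.sub_zero, show b - (b - 1) = 1 by omega] at this
  exact this

theorem first_edge (hmin : S.Min b) (hw : S.Walk b f Es) : S.Adj (f 0) (f 1) (Es 0) :=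
  hw 0 (by have := hmin.1; omega)

theorem last_edge (hmin : S.Min b) (hw : S.Walk b f Es) :
    S.Adj (f (b - 1)) (f b) (Es (b - 1)) := by
  have hb := hmin.1
  have := hw (b - 1) (by omega)
  rwa [show b - 1 + 1 = b by omega] at this

theorem exists_pair [Finite G] (hcc : ¬ S.CommC) (hmin : S.Min b) (hbad : S.Bad b f Es) :
    ∃ a ∈ cj (f 0) S.V, ∃ v ∈ cj (f b) S.V,
      a * v ≠ v * a ∧ a ∈ Es (b - 1) ∧ v ∈ Es 0 ∧ a ∉ cj (f b) S.O ∧ v ∉ cj (f 0) S.O := by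
  obtain ⟨a, ha, haO⟩ := SetLike.not_le_iff_exists.1 hbad.2
  have he := last_edge hmin hbad.1
  have haE : a ∈ Es (b - 1) := he.O_le (first_le hmin hbad.1 ha)
  have haH : (f b)⁻¹ * a * f b ∈ S.H := mem_cj.1 (he.symm.le_H haE)
  have har : (f b)⁻¹ * a * f b ∉ S.rot := by
    refine S.out_of_two (isPGroup_cj (g := (f b)⁻¹) he.isP) ?_ fun h => haO (mem_cj.2 h)
    rw [mem_cj]; simpa [mul_assoc] using haE
  obtain ⟨v, hv, hne⟩ := S.exists_moved hcc haH har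
  have hne' : a * (f b * v * (f b)⁻¹) ≠ f b * v * (f b)⁻¹ * a := by
    intro h
    apply hne
    calc (f b)⁻¹ * a * f b * v = (f b)⁻¹ * (a * (f b * v * (f b)⁻¹)) * f b := by group
      _ = (f b)⁻¹ * (f b * v * (f b)⁻¹ * a) * f b := by rw [h]
      _ = _ := by group
  refine ⟨a, ha, _, conj_mem_cj hv, hne', haE, ?_, haO, fun h => hne' (comm_V_O ha h)⟩
  exact (first_edge hmin hbad.1).O_le' (last_le hmin hbad.1 (conj_mem_cj hv))

theorem transv_of_bad [Finite G] (hcc : ¬ S.CommC) (hmin : S.Min b) (hbad : S.Bad b f Es) :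
    S.Transv := by
  obtain ⟨a, ha, -, -, -, haE, -, haO, -⟩ := exists_pair hcc hmin hbad
  have he := last_edge hmin hbad.1
  refine ⟨(f b)⁻¹ * a * f b, mem_cj.1 (he.symm.le_H haE), ?_, ?_⟩
  · refine S.out_of_two (isPGroup_cj (g := (f b)⁻¹) he.isP) ?_ fun h => haO (mem_cj.2 h)
    rw [mem_cj]; simpa [mul_assoc] using haE
  intro u hu v hv hu' hv'
  have key : ∀ x ∈ S.V, (f b)⁻¹ * a * f b * x * ((f b)⁻¹ * a * f b)⁻¹ ≠ x →
      f b * x * (f b)⁻¹ ∈ Es 0 ∧ f b * x * (f b)⁻¹ ∉ cj (f 0) S.O := by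
    refine fun x hx hne => ⟨(first_edge hmin hbad.1).O_le' (last_le hmin hbad.1 (conj_mem_cj hx)),
      fun h => hne ?_⟩
    calc _ = (f b)⁻¹ * (a * (f b * x * (f b)⁻¹)) * a⁻¹ * f b := by group
      _ = (f b)⁻¹ * (f b * x * (f b)⁻¹ * a) * a⁻¹ * f b := by rw [comm_V_O ha h]
      _ = x := by group
  have h0 := first_edge hmin hbad.1
  have h := comm_V_O ha (two_mul_cj h0.isP h0.le_H (key u hu hu').1 (key v hv hv').1
    (key u hu hu').2 (key v hv hv').2)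
  calc _ = (f b)⁻¹ * (a * (f b * u * (f b)⁻¹ * (f b * v * (f b)⁻¹))) * a⁻¹ * f b := by group
    _ = (f b)⁻¹ * (f b * u * (f b)⁻¹ * (f b * v * (f b)⁻¹) * a) * a⁻¹ * f b := by rw [h]
    _ = u * v := by group

variable {w : G}

theorem Adj.commutator_eq {g g' : G} {E : Subgroup G} (h : S.Adj g g' E) :
    ∃ k : G, E = cj k S.P ∧ cj g S.V = cj k S.V ∧ ⁅cj g S.V, E⁆ = cj k S.W := by
  obtain ⟨h₁, hh₁, h₂, hh₂, e, he, rfl, rfl⟩ := h
  have e1 : cj (g * h₁) S.V = cj g S.V := by rw [cj_mul, S.V_normal h₁ hh₁]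
  exact ⟨g * h₁, rfl, e1.symm, by rw [← e1, W, cj_commutator]⟩

theorem eq_of_two (M : S.ModData w) {k k' d : G} (hd : d ≠ 1) (h : d ∈ cj k S.W)
    (h' : d ∈ cj k' S.W) : cj k S.W = cj k' S.W := by
  have key : ∀ m : G, d ∈ cj m S.W → ∀ x, x ∈ cj m S.W ↔ x = 1 ∨ x = d := by
    intro m hm x
    have hdm : m⁻¹ * d * m = w := by
      refine ((M.W_mem _).1 (mem_cj.1 hm)).resolve_left fun h => hd ?_
      calc d = m * (m⁻¹ * d * m) * m⁻¹ := by group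
        _ = 1 := by rw [h]; group
    rw [mem_cj, M.W_mem, ← hdm]
    constructor
    · rintro (h | h)
      · left
        calc x = m * (m⁻¹ * x * m) * m⁻¹ := by group
          _ = 1 := by rw [h]; group
      · exact .inr (by simpa using h)
    · rintro (rfl | rfl)
      · exact .inl (by group)
      · exact .inr rfl
  ext x
  rw [key k h, key k' h']

/-- The two ends of a bad path have the same commutator. -/
theorem L_eq [Finite G] (hcc : ¬ S.CommC) (M : S.ModData w) (hmin : S.Min b)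
    (hbad : S.Bad b f Es) :
    ⁅cj (f 0) S.V, Es 0⁆ = ⁅cj (f b) S.V, Es (b - 1)⁆ := by
  obtain ⟨a, ha, v, hv, hne, haE, hvE, -, -⟩ := exists_pair hcc hmin hbad
  have h1 := Subgroup.commutator_mem_commutator ha hvE
  have h2 : ⁅a, v⁆ ∈ ⁅cj (f b) S.V, Es (b - 1)⁆ := by
    rw [← commutatorElement_inv]
    exact inv_mem (Subgroup.commutator_mem_commutator hv haE)
  obtain ⟨k, -, -, hk⟩ := (first_edge hmin hbad.1).commutator_eq
  obtain ⟨k', -, -, hk'⟩ := (last_edge hmin hbad.1).symm.commutator_eq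
  rw [hk] at h1 ⊢
  rw [hk'] at h2 ⊢
  exact eq_of_two M (fun h => hne (commutatorElement_eq_one_iff_mul_comm.1 h)) h1 h2

theorem shift [Finite G] (hcc : ¬ S.CommC) (M : S.ModData w) (hmin : S.Min b)
    (hbad : S.Bad b f Es) (h0 : f 0 ∈ S.H) (hE : Es 0 = S.P) {d : G} (hdH : d ∈ S.H)
    (hd : ∀ X : Subgroup G, cj (d * d) X = X → cj S.c X = X)
    (hdi : ∀ t ∈ S.P, t ∉ S.O → ∃ o ∈ S.O, t * d⁻¹ * t⁻¹ = d * o) :
    S.Bad b (cons (d * S.y) f) (cons (cj d S.P) Es) := by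
  have hb := hmin.1
  refine ⟨?_, fun hle => ?_⟩
  · intro i hi
    match i with
    | 0 =>
      refine ⟨1, S.H.one_mem, d⁻¹ * f 0, mul_mem (inv_mem hdH) h0, S.y⁻¹, .inr rfl, ?_, ?_⟩
      · show f 0 = d * S.y * 1 * S.y⁻¹ * (d⁻¹ * f 0)
        group
      · show cj d S.P = cj (d * S.y * 1) S.P
        rw [mul_one, cj_mul, S.y_P]
    | i + 1 => exact hbad.1 i (by omega)
  obtain ⟨v, hv, hvE, hvO⟩ : ∃ v ∈ cj (f b) S.V, v ∈ S.P ∧ v ∉ S.O := by
    obtain ⟨a, -, v, hv, -, -, hvE, -, hvO⟩ := exists_pair hcc hmin hbad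
    rw [S.O_normal _ h0] at hvO
    exact ⟨v, hv, hE ▸ hvE, hvO⟩
  have hlast := last_edge hmin hbad.1
  have hL : ⁅cj (f b) S.V, Es (b - 1)⁆ ≤ S.V := by
    rw [← L_eq hcc M hmin hbad, S.V_normal _ h0, hE]
    exact S.W_le_V
  have hV1 : cj (d * S.y) S.V ≤ cj (f (b - 1)) S.O := by
    obtain ⟨b', rfl⟩ : ∃ b', b = b' + 1 := ⟨b - 1, by omega⟩
    exact hle
  let X := S.V ⊔ cj (d * S.y) S.V
  have hyn := S.cj_y_normal S.V_normal_P
  -- `v` normalises `X`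
  have hvX : ∀ u ∈ cj (f b) S.V, u ∈ S.P → cj u X ≤ X := by
    intro u hu huP
    rw [cj_sup]
    refine sup_le ((S.V_normal_P u huP).le.trans le_sup_left) ?_
    rintro _ ⟨x, hx, rfl⟩
    show u * x * u⁻¹ ∈ X
    have h1 : ⁅u, x⁆ ∈ S.V := hL (Subgroup.commutator_mem_commutator hu (hlast.O_le (hV1 hx)))
    have := Subgroup.mul_mem_sup h1 (hx : x ∈ cj (d * S.y) S.V)
    rwa [commutatorElement_def, inv_mul_cancel_right] at this
  have hvX' : cj v X = X :=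
    cj_eq_of_le (hvX v hv hvE) (hvX _ (inv_mem hv) (inv_mem hvE))
  have hOX : ∀ o ∈ S.O, cj o X = X := fun o ho => by
    rw [cj_sup, S.V_normal o (S.O_le_H ho), ← cj_mul,
      show o * (d * S.y) = d * (d⁻¹ * o * d) * S.y by group, cj_mul (d * (d⁻¹ * o * d)) S.y,
      cj_mul d (d⁻¹ * o * d), hyn _ (S.O_le (S.O_conj' hdH ho)), ← cj_mul]
  have hPX : ∀ p ∈ S.P, cj p X = X := by
    intro p hp
    by_cases hpO : p ∈ S.O
    · exact hOX p hpO
    · have ho := S.P_two p hp v⁻¹ (inv_mem hvE) hpO fun h => hvO (by simpa using inv_mem h)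
      rw [show p = p * v⁻¹ * v by group, cj_mul, hvX', hOX _ ho]
  have hdtX : cj (d * v * d⁻¹) X = X := by
    rw [cj_sup, S.V_normal _ (mul_mem (mul_mem hdH (S.P_le hvE)) (inv_mem hdH)), ← cj_mul,
      show d * v * d⁻¹ * (d * S.y) = d * v * S.y by group, cj_mul (d * v) S.y, cj_mul d v,
      hyn v hvE, ← cj_mul]
  have hcX : cj S.c X = X := by
    refine hd X ?_
    obtain ⟨o, ho, e⟩ := hdi v hvE hvO
    have e' : d * d = d * v * d⁻¹ * (v⁻¹ * o⁻¹) := by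
      calc d * d = d * (d * o) * o⁻¹ := by group
        _ = d * (v * d⁻¹ * v⁻¹) * o⁻¹ := by rw [e]
        _ = _ := by group
    rw [e', cj_mul, cj_mul v⁻¹ o⁻¹, hOX _ (inv_mem ho), hPX _ (inv_mem hvE), hdtX]
  have hn := S.cj_H_eq hcX hPX
  have hX : X = S.V ⊔ cj S.y S.V := by
    conv_lhs => rw [← hn _ (inv_mem hdH)]
    rw [cj_sup, S.V_normal _ (inv_mem hdH), ← cj_mul, inv_mul_cancel_left]
  refine S.V_ne hcc (le_bot_iff.1 ?_)
  refine le_trans le_sup_left (S.hyQ X ?_ hn ?_).le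
  · rw [hX]; exact sup_le S.V_le_P S.yV_le_P
  · rw [hX, cj_sup, S.y_y S.V_le_P S.V_normal_P, sup_comm]

theorem hd_pos : ∀ X : Subgroup G, cj (S.c * S.c) X = X → cj S.c X = X := by
  intro X h
  obtain ⟨m, hm⟩ := exists_pow_sq S.c_odd
  rw [← hm, pow_two]
  exact cj_pow_eq h m

theorem hd_neg : ∀ X : Subgroup G, cj (S.c⁻¹ * S.c⁻¹) X = X → cj S.c X = X := by
  intro X h
  refine hd_pos X ?_
  rw [show S.c * S.c = (S.c⁻¹ * S.c⁻¹)⁻¹ by rw [mul_inv_rev, inv_inv]]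
  exact cj_inv_of_eq h

theorem hdi_pos : ∀ t ∈ S.P, t ∉ S.O → ∃ o ∈ S.O, t * S.c⁻¹ * t⁻¹ = S.c * o := by
  intro t ht htO
  refine ⟨(t * S.c * t⁻¹ * S.c)⁻¹, inv_mem (S.inverts t ht htO), ?_⟩
  group

theorem hdi_neg : ∀ t ∈ S.P, t ∉ S.O → ∃ o ∈ S.O, t * S.c⁻¹⁻¹ * t⁻¹ = S.c⁻¹ * o := by
  intro t ht htO
  exact ⟨S.c * (t * S.c * t⁻¹ * S.c) * S.c⁻¹, S.O_conj S.c_mem (S.inverts t ht htO), by group⟩

end critical

variable {w : G}

theorem cW_ne (M : S.ModData w) : cj S.c S.W ≠ cj S.c⁻¹ S.W := by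
  intro h
  have h1 : S.c * w * S.c⁻¹ ∈ cj S.c⁻¹ S.W := h.le (conj_mem_cj ((M.W_mem w).2 (.inr rfl)))
  rw [mem_cj, inv_inv] at h1
  rcases (M.W_mem _).1 h1 with h2 | h2
  · apply M.w_ne
    calc w = (S.c * S.c)⁻¹ * (S.c * (S.c * w * S.c⁻¹) * S.c⁻¹) * (S.c * S.c) := by group
      _ = 1 := by rw [h2]; group
  · have h3 : S.c⁻¹ * w * S.c = S.c * w * S.c⁻¹ := by
      calc S.c⁻¹ * w * S.c = S.c⁻¹ * (S.c * (S.c * w * S.c⁻¹) * S.c⁻¹) * S.c := by rw [h2]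
        _ = _ := by group
    rw [M.cinv] at h3
    exact M.w_ne (mul_right_cancel (h3.trans (one_mul _).symm))

theorem U_normal (M : S.ModData w) : ∀ h ∈ S.H, cj h S.U = S.U := by
  refine S.cj_H_eq ?_ (S.Z_normal_P M.U_le)
  ext x
  rw [mem_cj]
  constructor
  · intro hx
    have e := (S.mem_U.1 hx).2
    have : x = S.c⁻¹ * x * S.c := by
      calc x = S.c * (S.c⁻¹ * x * S.c) * S.c⁻¹ := by group
        _ = _ := e
    rwa [this]
  · intro hx
    have e := (S.mem_U.1 hx).2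
    have : S.c⁻¹ * x * S.c = x := by
      calc S.c⁻¹ * x * S.c = S.c⁻¹ * (S.c * x * S.c⁻¹) * S.c := by rw [e]
        _ = x := by group
    rwa [this]

theorem W_inf_U (M : S.ModData w) : S.W ⊓ S.U = ⊥ := by
  rw [eq_bot_iff]
  rintro x ⟨hx, hu⟩
  rcases (M.W_mem x).1 hx with rfl | rfl
  · exact one_mem _
  · exact absurd (S.mem_U.1 hu).2 M.cw_ne

theorem Adj.U_eq (M : S.ModData w) (hs : cj S.y S.U = S.W) {g g' : G} {E : Subgroup G}
    (h : S.Adj g g' E) : cj g' S.U = ⁅cj g S.V, E⁆ := by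
  obtain ⟨h₁, hh₁, h₂, hh₂, e, he, rfl, rfl⟩ := h
  rw [cj_mul (g * h₁ * e) h₂, U_normal M h₂ hh₂, cj_mul (g * h₁) e,
    e_eq he (M.U_le.trans S.Z_le_P) (S.Z_normal_P M.U_le), hs, W, cj_commutator, cj_mul g h₁ S.V,
    S.V_normal h₁ hh₁]

theorem U_eq_of_bad [Finite G] (hcc : ¬ S.CommC) (M : S.ModData w) (hs : cj S.y S.U = S.W)
    {b : ℕ} {f : ℕ → G} {Es : ℕ → Subgroup G} (hmin : S.Min b) (hbad : S.Bad b f Es) :
    cj (f 1) S.U = cj (f (b - 1)) S.U := by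
  rw [(first_edge hmin hbad.1).U_eq M hs, (last_edge hmin hbad.1).symm.U_eq M hs,
    L_eq hcc M hmin hbad]

/-- The case of paths of length two. -/
theorem two_step [Finite G] (M : S.ModData w)
    (hWU : cj S.y S.W = S.U) (hUW : cj S.y S.U = S.W) (hV : S.V ≤ cj S.y S.O) {i j : ℕ} {v v' : G}
    (hv : v ∈ cj (S.c ^ i) (cj S.y S.V)) (hv' : v' ∈ cj (S.c ^ j) (cj S.y S.V))
    (hne : v * v' ≠ v' * v) : False := by
  have hyVO : cj S.y S.V ≤ S.O := (cj_mono hV).trans (S.y_y S.O_le S.O_P_normal).le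
  have hUn := U_normal M
  have hUfix : ∀ p ∈ S.P, ∀ u ∈ S.U, p * u * p⁻¹ = u := fun p hp u hu => S.Z_fix (M.U_le hu) hp
  let X : Subgroup G := Subgroup.closure {x | ∃ h ∈ S.H, ∃ u ∈ cj S.y S.V, x = h * u * h⁻¹}
  have hgen : ∀ h ∈ S.H, ∀ u ∈ cj S.y S.V, h * u * h⁻¹ ∈ X :=
    fun h hh u hu => Subgroup.subset_closure ⟨h, hh, u, hu, rfl⟩
  have hXn : ∀ h ∈ S.H, cj h X = X := by
    have : ∀ h ∈ S.H, cj h X ≤ X := by
      intro h hh
      refine Subgroup.map_le_iff_le_comap.2 ((Subgroup.closure_le _).2 ?_)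
      rintro _ ⟨h', hh', u, hu, rfl⟩
      show h * (h' * u * h'⁻¹) * h⁻¹ ∈ X
      have := hgen _ (mul_mem hh hh') u hu
      convert this using 1
      group
    exact fun h hh => cj_eq_of_le (this h hh) (this _ (inv_mem hh))
  have hXO : X ≤ S.O := by
    refine (Subgroup.closure_le _).2 ?_
    rintro _ ⟨h, hh, u, hu, rfl⟩
    exact S.O_conj hh (hyVO hu)
  have hVm : ∀ m : ℕ, cj (S.c ^ m) (cj S.y S.V) ≤ X := fun m => by
    rintro _ ⟨u, hu, rfl⟩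
    exact hgen _ (pow_mem S.c_mem m) u hu
  -- commutators with `O`
  have hcomm : ∀ x ∈ X, ∀ o ∈ S.O, ⁅x, o⁆ ∈ S.U := by
    intro x hx
    induction hx using Subgroup.closure_induction with
    | mem x hx =>
      obtain ⟨h, hh, u, hu, rfl⟩ := hx
      intro o ho
      have h1 : ⁅u, h⁻¹ * o * h⁆ ∈ cj S.y S.W := by
        rw [W, cj_commutator, S.y_P]
        exact Subgroup.commutator_mem_commutator hu (S.O_le (S.O_conj' hh ho))
      rw [hWU] at h1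
      have h2 := (hUn h hh).le (conj_mem_cj h1)
      rw [commutatorElement_def] at h2 ⊢
      convert h2 using 1
      group
    | one => intro o _; simp [commutatorElement_def]
    | mul a b ha hb iha ihb =>
      intro o ho
      have e : ⁅a * b, o⁆ = a * ⁅b, o⁆ * a⁻¹ * ⁅a, o⁆ := by
        simp only [commutatorElement_def]; group
      rw [e, hUfix a (S.O_le (hXO ha)) _ (ihb o ho)]
      exact mul_mem (ihb o ho) (iha o ho)
    | inv a ha iha =>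
      intro o ho
      have e : ⁅a⁻¹, o⁆ = a⁻¹ * ⁅a, o⁆⁻¹ * a⁻¹⁻¹ := by
        simp only [commutatorElement_def]; group
      rw [e, hUfix _ (inv_mem (S.O_le (hXO ha))) _ (inv_mem (iha o ho))]
      exact inv_mem (iha o ho)
  have hsq : ∀ x ∈ X, x * x ∈ S.U := by
    intro x hx
    induction hx using Subgroup.closure_induction with
    | mem x hx =>
      obtain ⟨h, hh, u, hu, rfl⟩ := hx
      have h2 : u * u = 1 := by
        obtain ⟨u₀, hu₀, rfl⟩ := hu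
        show S.y * u₀ * S.y⁻¹ * (S.y * u₀ * S.y⁻¹) = 1
        calc _ = S.y * (u₀ * u₀) * S.y⁻¹ := by group
          _ = 1 := by rw [hu₀.2.1]; group
      rw [show h * u * h⁻¹ * (h * u * h⁻¹) = h * (u * u) * h⁻¹ by group, h2, mul_one, mul_inv_cancel]
      exact one_mem _
    | one => simp
    | mul a b ha hb iha ihb =>
      have e : a * b * (a * b) = (a * a) * (a⁻¹ * ⁅b, a⁆ * a⁻¹⁻¹) * (b * b) := by
        simp only [commutatorElement_def]; group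
      rw [e, hUfix _ (inv_mem (S.O_le (hXO ha))) _ (hcomm b hb a (hXO ha))]
      exact mul_mem (mul_mem iha (hcomm b hb a (hXO ha))) ihb
    | inv a ha iha =>
      rw [show a⁻¹ * a⁻¹ = (a * a)⁻¹ by group]
      exact inv_mem iha
  have hVOcomm : ∀ m : ℕ, ∀ a ∈ cj (S.c ^ m) (cj S.y S.V), ∀ o ∈ cj (S.c ^ m * S.y) S.O,
      a * o = o * a := by
    intro m a ha o ho
    rw [← cj_mul] at ha
    exact comm_V_O ha ho
  obtain ⟨t, ht, htO⟩ : ∃ t ∈ cj S.y X, t ∉ S.O := by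
    by_contra! hall
    have h1 : X ≤ cj S.y S.O := by
      intro x hx
      have h2 := cj_mono (g := S.y) hall
      rw [S.y_y (hXO.trans S.O_le) (fun p hp => hXn p (S.P_le hp))] at h2
      exact h2 hx
    refine hne (hVOcomm j v' hv' v ?_).symm
    rw [cj_mul]
    exact cj_mono h1 ((hXn _ (pow_mem S.c_mem j)).ge (hVm i hv))
  have hXP : X ≤ S.P := hXO.trans S.O_le
  have htP : t ∈ S.P := (cj_mono hXP).trans S.y_P.le ht
  have hyXn := S.cj_y_normal (A := X) fun p hp => hXn p (S.P_le hp)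
  have hyVn := S.cj_y_normal S.V_normal_P
  obtain ⟨k, hk⟩ := S.exists_half' (i + j)
  obtain ⟨o₁, ho₁, e₁⟩ := S.c_conj_out htP htO k
  obtain ⟨o₂, ho₂, e₂⟩ := S.c_conj_out htP htO i
  set s := S.c ^ k * t * (S.c ^ k)⁻¹ with hs
  have hsH : s ∈ S.H :=
    mul_mem (mul_mem (pow_mem S.c_mem k) (S.P_le htP)) (inv_mem (pow_mem S.c_mem k))
  -- `s` maps `V_i` to `V_j`
  have hq : (S.c ^ j)⁻¹ * (s * S.c ^ i) ∈ S.P := by
    have e : s * S.c ^ i = S.c ^ k * (t * S.c ^ k * t⁻¹)⁻¹ * (t * S.c ^ i * t⁻¹) * t := by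
      rw [hs]; group
    rw [e, e₁, e₂]
    have e' : (S.c ^ j)⁻¹ * (S.c ^ k * (o₁ * (S.c ^ k)⁻¹)⁻¹ * (o₂ * (S.c ^ i)⁻¹) * t) =
        ((S.c ^ (i + j))⁻¹ * S.c ^ (2 * k)) * (S.c ^ i * (o₁⁻¹ * o₂) * (S.c ^ i)⁻¹) * t := by
      rw [pow_add, two_mul, pow_add]; group
    rw [e']
    exact mul_mem (mul_mem (S.O_le hk) (S.O_le (S.O_conj (pow_mem S.c_mem i)
      (mul_mem (inv_mem ho₁) ho₂)))) htP
  have hsv : s * v * s⁻¹ ∈ cj (S.c ^ j) (cj S.y S.V) := by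
    have h1 : s * v * s⁻¹ ∈ cj s (cj (S.c ^ i) (cj S.y S.V)) := conj_mem_cj hv
    rwa [← cj_mul, show s * S.c ^ i = S.c ^ j * ((S.c ^ j)⁻¹ * (s * S.c ^ i)) by group,
      cj_mul, hyVn _ hq] at h1
  -- elements of `V_j` outside `V` multiply into `V`
  have hidx : ∀ p ∈ cj (S.c ^ j) (cj S.y S.V), ∀ q ∈ cj (S.c ^ j) (cj S.y S.V),
      p ∉ S.V → q ∉ S.V → p * q ∈ S.V := by
    rintro _ ⟨_, ⟨p, hp, rfl⟩, rfl⟩ _ ⟨_, ⟨q, hq, rfl⟩, rfl⟩ hpV hqV
    have key : ∀ r ∈ S.Z, S.c ^ j * (S.y * r * S.y⁻¹) * (S.c ^ j)⁻¹ ∈ S.V := fun r hr =>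
      S.V_conj (pow_mem S.c_mem j) (M.Z_V (S.Z_y.le (conj_mem_cj hr)))
    have := key _ (M.index p hp q hq (fun h => hpV (key p h)) (fun h => hqV (key q h)))
    show S.c ^ j * (S.y * p * S.y⁻¹) * (S.c ^ j)⁻¹ * (S.c ^ j * (S.y * q * S.y⁻¹) * (S.c ^ j)⁻¹) ∈ _
    convert this using 1
    group
  have hvV : v ∉ S.V := fun h => hne (S.V_comm h (hXO (hVm j hv')))
  have hv'V : v' ∉ S.V := fun h => hne (S.V_comm h (hXO (hVm i hv))).symm
  have hsvV : s * v * s⁻¹ ∉ S.V := fun h => hvV (by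
    have := S.V_conj (inv_mem hsH) h
    convert this using 1
    group)
  have hne' : Commute (s * v * s⁻¹) v → False := fun h => by
    apply hne
    have h1 : Commute (s * v * s⁻¹ * v') v := S.V_comm (hidx _ hsv v' hv' hsvV hv'V) (hXO (hVm i hv))
    have h2 := h.inv_left.mul_left h1
    rw [show (s * v * s⁻¹)⁻¹ * (s * v * s⁻¹ * v') = v' by group] at h2
    exact h2.eq.symm
  set d := s * v * s⁻¹ * v⁻¹ with hd
  have hvX : v ∈ X := hVm i hv
  have hdX : d ∈ X := mul_mem ((hXn s hsH).le (conj_mem_cj hvX)) (inv_mem hvX)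
  set v₁ := (S.c ^ k)⁻¹ * v * S.c ^ k with hv₁
  have hv₁P : v₁ ∈ S.P := S.O_le (S.O_conj' (pow_mem S.c_mem k) (hXO hvX))
  have hd₁ : (S.c ^ k)⁻¹ * d * S.c ^ k ∈ cj S.y X := by
    have h1 : v₁ * t⁻¹ * v₁⁻¹ ∈ cj S.y X := (hyXn v₁ hv₁P).le (conj_mem_cj (inv_mem ht))
    have h2 := mul_mem ht h1
    convert h2 using 1
    rw [hd, hs, hv₁]; group
  have hd2 : d * d = 1 := by
    have h1 := hsq d hdX
    obtain ⟨x, hx, hxe⟩ := hd₁
    have h2 : (S.c ^ k)⁻¹ * (d * d) * S.c ^ k ∈ S.W ⊓ S.U := by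
      refine ⟨?_, (hUn _ (inv_mem (pow_mem S.c_mem k))).le (by simpa using conj_mem_cj (g := (S.c ^ k)⁻¹) h1)⟩
      rw [← hUW]
      have e : (S.c ^ k)⁻¹ * (d * d) * S.c ^ k = S.y * (x * x) * S.y⁻¹ := by
        change S.y * x * S.y⁻¹ = _ at hxe
        calc _ = ((S.c ^ k)⁻¹ * d * S.c ^ k) * ((S.c ^ k)⁻¹ * d * S.c ^ k) := by group
          _ = _ := by rw [← hxe]; group
      rw [e]
      exact conj_mem_cj (hsq x hx)
    rw [W_inf_U M, Subgroup.mem_bot] at h2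
    calc d * d = S.c ^ k * ((S.c ^ k)⁻¹ * (d * d) * S.c ^ k) * (S.c ^ k)⁻¹ := by group
      _ = 1 := by rw [h2]; group
  apply hne'
  have hvv : v⁻¹ = v := by
    obtain ⟨_, ⟨v₀, hv₀, rfl⟩, rfl⟩ := hv
    simp only [MulEquiv.coe_toMonoidHom]
    rw [← map_inv, ← map_inv, S.V_inv hv₀]
  have hsv2 : (s * v * s⁻¹)⁻¹ = s * v * s⁻¹ := by
    calc (s * v * s⁻¹)⁻¹ = s * v⁻¹ * s⁻¹ := by group
      _ = _ := by rw [hvv]
  rw [hd, hvv] at hd2
  show s * v * s⁻¹ * v = v * (s * v * s⁻¹)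
  calc s * v * s⁻¹ * v = (s * v * s⁻¹ * v)⁻¹ := eq_inv_of_mul_eq_one_left hd2
    _ = v * (s * v * s⁻¹) := by rw [mul_inv_rev, hvv, hsv2]

theorem not_V_le_yO [Finite G] (hcc : ¬ S.CommC) : ¬ S.V ≤ cj S.y S.O := by
  intro hV
  obtain ⟨b, hmin, f₀, Es₀, hbad₀⟩ := exists_min hcc hV
  obtain ⟨w, M⟩ := S.exists_modData hcc (transv_of_bad hcc hmin hbad₀)
  have hb := hmin.1
  obtain ⟨f, Es, hbad, h0, hE⟩ : ∃ f Es, S.Bad b f Es ∧ f 0 ∈ S.H ∧ Es 0 = S.P := by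
    obtain ⟨h₁, hh₁, h₂, hh₂, e, he, -, hEs⟩ := first_edge hmin hbad₀.1
    refine ⟨_, _, hbad₀.translate (f₀ 0 * h₁)⁻¹, ?_, ?_⟩
    · show (f₀ 0 * h₁)⁻¹ * f₀ 0 ∈ S.H
      rw [mul_inv_rev, inv_mul_cancel_right]
      exact inv_mem hh₁
    · show cj (f₀ 0 * h₁)⁻¹ (Es₀ 0) = S.P
      rw [hEs, cj_inv_cj]
  have hp := shift hcc M hmin hbad h0 hE S.c_mem hd_pos hdi_pos
  have hn := shift hcc M hmin hbad h0 hE (inv_mem S.c_mem) hd_neg hdi_neg
  apply cW_ne M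
  rcases M.cases with hfix | ⟨hWU, hUW⟩
  · -- `y` fixes `[V, P]`
    have hLp := L_eq hcc M hmin hp
    have hLn := L_eq hcc M hmin hn
    have key : ∀ d : G, ⁅cj (d * S.y) S.V, cj d S.P⁆ = cj d S.W := fun d => by
      conv_rhs => rw [← hfix, W, cj_commutator, cj_commutator, S.y_P]
      rw [cj_mul]
    obtain ⟨b', rfl⟩ : ∃ b', b = b' + 2 := ⟨b - 2, by omega⟩
    simp only [cons, key, show b' + 2 - 1 = b' + 1 from rfl] at hLp hLn
    rw [hLp, hLn]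
  · rcases hb.eq_or_lt with rfl | hb3
    · -- paths of length two
      exfalso
      obtain ⟨a, ha, v, hv, hne, -⟩ := exists_pair hcc hmin hbad
      have key : ∀ g E, S.Adj (f 1) g E → ∀ x ∈ cj g S.V,
          ∃ i : ℕ, (f 1)⁻¹ * x * f 1 ∈ cj (S.c ^ i) (cj S.y S.V) := by
        rintro g E ⟨h₁, hh₁, h₂, hh₂, e, he, rfl, -⟩ x hx
        obtain ⟨i, p, hp, rfl⟩ := S.decomp h₁ hh₁
        refine ⟨i, ?_⟩
        rw [cj_mul (f 1 * (S.c ^ i * p) * e) h₂, S.V_normal h₂ hh₂, cj_mul (f 1 * (S.c ^ i * p)) e,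
          e_eq he S.V_le_P S.V_normal_P, cj_mul (f 1), cj_mul (S.c ^ i) p,
          S.cj_y_normal S.V_normal_P p hp] at hx
        exact mem_cj.1 hx
      obtain ⟨i, hi⟩ := key _ _ (hbad.1 0 (by omega)).symm a ha
      obtain ⟨j, hj⟩ := key _ _ (hbad.1 1 (by omega)) v hv
      refine two_step M hWU hUW hV hi hj fun h => hne ?_
      calc a * v = f 1 * ((f 1)⁻¹ * a * f 1 * ((f 1)⁻¹ * v * f 1)) * (f 1)⁻¹ := by group
        _ = f 1 * ((f 1)⁻¹ * v * f 1 * ((f 1)⁻¹ * a * f 1)) * (f 1)⁻¹ := by rw [h]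
        _ = v * a := by group
    · -- longer paths
      obtain ⟨b', rfl⟩ : ∃ b', b = b' + 3 := ⟨b - 3, by omega⟩
      have key : ∀ d : G, S.Bad (b' + 3) (cons (d * S.y) f) (cons (cj d S.P) Es) →
          cj d S.W = cj (f b') S.U := by
        intro d hd
        have h1 : ((d * S.y)⁻¹ * cons (d * S.y) f 0) ∈ S.H := by simp [cons]
        have h2 : cj (d * S.y)⁻¹ (cons (cj d S.P) Es 0) = S.P := by
          show cj (d * S.y)⁻¹ (cj d S.P) = S.P
          conv_lhs => rw [← S.y_P, ← cj_mul d S.y]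
          exact cj_inv_cj _ _
        have h3 := shift hcc M hmin (hd.translate (d * S.y)⁻¹) h1 h2 S.c_mem hd_pos hdi_pos
        have h4 := U_eq_of_bad hcc M hUW hmin h3
        simp only [cons, show b' + 3 - 1 = b' + 2 from rfl, inv_mul_cancel, cj_one] at h4
        rw [cj_mul] at h4
        conv_lhs => rw [← hUW, ← cj_mul, h4]
        exact cj_cj_inv _ _
      rw [key _ hp, key _ hn]

end Setting

end CfsgLib.Push85
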