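import Cfsg.Agent.Lib.Push85.Top

/-!
The setting, from a dihedral quotient by the `2`-core.
-/

set_option autoImplicit false
set_option linter.style.haveILetI false
set_option linter.unusedSectionVars false

namespace CfsgLib.Push85

open Pointwise

variable {G : Type*} [Group G]

theorem smul_eq_cj (g : G) (A : Subgroup G) : MulAut.conj g • A = cj g A := rfl

theorem dihedral_eq_one_of_two_power {n : ℕ} (hn : Odd n) (j : ZMod n) {i : ℕ}
    (h : (DihedralGroup.r j) ^ 2 ^ i = 1) : DihedralGroup.r j = 1 := by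
  refine eq_one_of_odd_two hn ?_ h
  rw [DihedralGroup.r_pow, ← DihedralGroup.r_zero]
  simp

theorem isPGroup_center_two {D : Type*} [Group D] {z : D} (hz : ∀ g : D, g * z = z * g)
    (hz2 : z ^ 2 = 1) : (Subgroup.zpowers z).Normal ∧ IsPGroup 2 (Subgroup.zpowers z) := by
  refine ⟨⟨fun x hx g => ?_⟩, fun x => ⟨1, Subtype.ext ?_⟩⟩
  · obtain ⟨i, rfl⟩ := Subgroup.mem_zpowers_iff.1 hx
    rw [((show Commute g z from hz g).zpow_right i).eq, mul_inv_cancel_right]
    exact zpow_mem (Subgroup.mem_zpowers z) i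
  · obtain ⟨i, hi⟩ := Subgroup.mem_zpowers_iff.1 x.2
    rw [pow_one, Subgroup.coe_pow, Subgroup.coe_one, ← hi, ← zpow_natCast, ← zpow_mul, mul_comm,
      zpow_mul, zpow_natCast, hz2, one_zpow]

theorem exists_setting [Finite G] (H : Subgroup G) (hO : Cfsg.pCore 2 ↥H ≠ ⊥) (n : ℕ) (hn : 2 ≤ n)
    (e : ↥H ⧸ Cfsg.pCore 2 ↥H ≃* DihedralGroup n)
    (P : Subgroup G) (hPH : P ≤ H) (hP : IsPGroup 2 P) (hPsyl : ¬ 2 ∣ P.relIndex H)
    (y : G) (hy2 : y ^ 2 ∈ P ⊔ Subgroup.centralizer (P : Set G)) (hyN : MulAut.conj y • P = P)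
    (hyQ : ∀ Q : Subgroup G, Q ≤ P → (Q.subgroupOf H).Normal → MulAut.conj y • Q = Q → Q = ⊥) :
    ∃ S : Setting G, S.H = H ∧ S.P = P := by
  haveI : Fact (Nat.Prime 2) := ⟨Nat.prime_two⟩
  haveI : NeZero n := ⟨by omega⟩
  set O := Cfsg.pCore 2 ↥H with hOdef
  let φ : ↥H →* DihedralGroup n := e.toMonoidHom.comp (QuotientGroup.mk' O)
  have hφker : φ.ker = O := by
    ext x
    simp [φ, MonoidHom.mem_ker]
  have hφsurj : Function.Surjective φ := e.surjective.comp (QuotientGroup.mk'_surjective O)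
  have hmemO : ∀ x : ↥H, φ x = 1 ↔ x ∈ O := fun x => by rw [← hφker, MonoidHom.mem_ker]
  have hnodd : Odd n := by
    rw [← Nat.not_even_iff_odd]
    rintro ⟨m, hm⟩
    let z : DihedralGroup n := DihedralGroup.r (m : ZMod n)
    have hmm : (m : ZMod n) + m = 0 := by
      rw [← Nat.cast_add, ← hm, ZMod.natCast_self]
    have hneg : -(m : ZMod n) = m := neg_eq_of_add_eq_zero_right hmm
    have hz : ∀ g : DihedralGroup n, g * z = z * g := by
      rintro (i | i)
      · simp [z, add_comm]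
      · simp [z, sub_eq_add_neg, hneg]
    have hz2 : z ^ 2 = 1 := by simp [z, pow_two, hmm]
    obtain ⟨hN, hN2⟩ := isPGroup_center_two hz hz2
    have hk : IsPGroup 2 φ.ker := by rw [hφker]; exact CfsgLib.PCore.pCore_isPGroup
    have hle : (Subgroup.zpowers z).comap φ ≤ O :=
      CfsgLib.PCore.le_pCore (hN.comap φ) (hN2.comap_of_ker_isPGroup φ hk)
    obtain ⟨x, hx⟩ := hφsurj z
    have h1 : z = 1 := by
      rw [← hx, hmemO]
      exact hle (show φ x ∈ Subgroup.zpowers z by rw [hx]; exact Subgroup.mem_zpowers z)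
    rw [← DihedralGroup.r_zero] at h1
    have h2 : (m : ZMod n) = 0 := DihedralGroup.r.inj h1
    rw [ZMod.natCast_eq_zero_iff] at h2
    have := Nat.le_of_dvd (by omega) h2
    omega
  have hn3 : 3 ≤ n := by
    rcases hnodd with ⟨r, hr⟩
    omega
  let P' : Subgroup ↥H := P.subgroupOf H
  have hP' : IsPGroup 2 P' := hP.comap_subtype
  have hOP : O ≤ P' := by
    have := CfsgLib.PCore.pCore_le_sylow (p := 2) (hP'.toSylow hPsyl)
    exact this
  -- elements of `P'` outside `O` go to reflections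
  have hrot : ∀ x ∈ P', ∀ j, φ x = DihedralGroup.r j → x ∈ O := by
    intro x hx j hj
    obtain ⟨i, hi⟩ := hP' ⟨x, hx⟩
    have h1 : (DihedralGroup.r j) ^ 2 ^ i = 1 := by
      rw [← hj, ← map_pow, show x ^ 2 ^ i = 1 by simpa using congrArg Subtype.val hi, map_one]
    rw [← hmemO, hj]
    exact dihedral_eq_one_of_two_power hnodd j h1
  obtain ⟨p₀, hp₀, hp₀O⟩ : ∃ x ∈ P', x ∉ O := by
    by_contra! h
    apply hPsyl
    have h1 : O.index ∣ P'.index := Subgroup.index_dvd_of_le h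
    have h2 : O.index = 2 * n := by
      rw [Subgroup.index_eq_card, Nat.card_congr e.toEquiv, DihedralGroup.nat_card]
    exact (dvd_mul_right 2 n).trans (h2 ▸ h1)
  obtain ⟨j₀, hj₀⟩ : ∃ j, φ p₀ = DihedralGroup.sr j := by
    rcases h : φ p₀ with j | j
    · exact absurd (hrot p₀ hp₀ j h) hp₀O
    · exact ⟨j, rfl⟩
  obtain ⟨g, hg⟩ := hφsurj (DihedralGroup.r 1)
  obtain ⟨a, m, hm, hgm⟩ :=
    Nat.exists_eq_two_pow_mul_odd (n := orderOf g) (orderOf_pos g).ne'
  let c : ↥H := g ^ 2 ^ a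
  have hc : φ c = DihedralGroup.r ((2 ^ a : ℕ) : ZMod n) := by
    show φ (g ^ 2 ^ a) = _
    rw [map_pow, hg, DihedralGroup.r_one_pow]
  have hcop : (2 ^ a).Coprime n := Nat.Coprime.pow_left a (Nat.coprime_two_left.2 hnodd)
  have hcodd : Odd (orderOf c) := by
    show Odd (orderOf (g ^ 2 ^ a))
    rw [orderOf_pow_of_dvd (pow_ne_zero a two_ne_zero) (hgm ▸ dvd_mul_right _ _), hgm,
      Nat.mul_div_cancel_left m (pow_pos two_pos a)]
    exact hm
  have hperiod : ∀ k : ℕ, c ^ k ∈ O ↔ n ∣ k := by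
    intro k
    rw [← hmemO, map_pow, hc, DihedralGroup.r_pow, ← DihedralGroup.r_zero, DihedralGroup.r.injEq,
      ← Nat.cast_mul, ZMod.natCast_eq_zero_iff]
    exact ⟨fun h => (Nat.Coprime.symm hcop).dvd_of_dvd_mul_left h, fun h => h.mul_left _⟩
  have hrotdec : ∀ (h : ↥H) (i : ZMod n), φ h = DihedralGroup.r i →
      ∃ k : ℕ, (c ^ k)⁻¹ * h ∈ O := by
    intro h i hi
    let u : (ZMod n)ˣ := ZMod.unitOfCoprime _ hcop
    refine ⟨(((u⁻¹ : (ZMod n)ˣ) : ZMod n) * i).val, ?_⟩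
    rw [← hmemO, map_mul, map_inv, map_pow, hc, DihedralGroup.r_pow, ZMod.natCast_zmod_val, hi,
      inv_mul_eq_one]
    congr 1
    rw [← ZMod.coe_unitOfCoprime _ hcop, ← mul_assoc, Units.mul_inv, one_mul]
  have hy2' : ∃ p ∈ P, ∀ a ∈ P, (y ^ 2) * a * (y ^ 2)⁻¹ = p * a * p⁻¹ := by
    rw [Subgroup.sup_eq_closure] at hy2
    generalize y ^ 2 = z at hy2 ⊢
    induction hy2 using Subgroup.closure_induction with
    | mem x hx =>
      rcases hx with hx | hx
      · exact ⟨x, hx, fun a _ => rfl⟩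
      · refine ⟨1, one_mem _, fun a ha => ?_⟩
        rw [← Subgroup.mem_centralizer_iff.1 hx a ha]; group
    | one => exact ⟨1, one_mem _, fun a _ => rfl⟩
    | mul u v _ _ ihu ihv =>
      obtain ⟨p, hp, hp'⟩ := ihu
      obtain ⟨q, hq, hq'⟩ := ihv
      refine ⟨p * q, mul_mem hp hq, fun a ha => ?_⟩
      calc u * v * a * (u * v)⁻¹ = u * (v * a * v⁻¹) * u⁻¹ := by group
        _ = u * (q * a * q⁻¹) * u⁻¹ := by rw [hq' a ha]
        _ = p * (q * a * q⁻¹) * p⁻¹ := hp' _ (mul_mem (mul_mem hq ha) (inv_mem hq))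
        _ = _ := by group
    | inv u _ ihu =>
      obtain ⟨p, hp, hp'⟩ := ihu
      refine ⟨p⁻¹, inv_mem hp, fun a ha => ?_⟩
      have h := hp' (p⁻¹ * a * p) (mul_mem (mul_mem (inv_mem hp) ha) hp)
      have e : a = u * (p⁻¹ * a * p) * u⁻¹ := by rw [h]; group
      calc u⁻¹ * a * u⁻¹⁻¹ = u⁻¹ * (u * (p⁻¹ * a * p) * u⁻¹) * u := by rw [← e]; group
        _ = _ := by group
  refine ⟨{ H := H, O := O.map H.subtype, P := P, y := y, c := (c : G), n := n
            n_three := hn3, n_odd := hnodd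
            O_ne := ?_
            O_le := ?_
            P_le := hPH, isP := hP
            O_normal := ?_
            P_out := ?_
            P_two := ?_
            c_mem := c.2
            c_odd := by rw [Subgroup.orderOf_coe]; exact hcodd
            c_period := ?_
            decomp := ?_
            inverts := ?_
            y_P := (smul_eq_cj y P) ▸ hyN
            y_sq := ?_
            hyQ := ?_ }, rfl, rfl⟩
  · rwa [Ne, Subgroup.map_eq_bot_iff_of_injective _ H.subtype_injective]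
  · rintro _ ⟨x, hx, rfl⟩; exact hOP hx
  · intro h hh
    have key : ∀ u ∈ H, cj u (O.map H.subtype) ≤ O.map H.subtype := by
      rintro u hu _ ⟨_, ⟨x, hx, rfl⟩, rfl⟩
      exact ⟨⟨u, hu⟩ * x * ⟨u, hu⟩⁻¹,
        (Subgroup.Normal.conj_mem (Cfsg.pCore_normal 2 ↥H) x hx _), rfl⟩
    exact cj_eq_of_le (key h hh) (key _ (inv_mem hh))
  · refine ⟨p₀, hp₀, ?_⟩
    rintro ⟨x, hx, hxe⟩
    exact hp₀O (Subtype.ext hxe ▸ hx)
  · intro u hu v hv huO hvO
    refine ⟨⟨u, hPH hu⟩ * ⟨v, hPH hv⟩, ?_, rfl⟩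
    have hu' : (⟨u, hPH hu⟩ : ↥H) ∉ O := fun h => huO ⟨_, h, rfl⟩
    have hv' : (⟨v, hPH hv⟩ : ↥H) ∉ O := fun h => hvO ⟨_, h, rfl⟩
    rcases hue : φ ⟨u, hPH hu⟩ with i | i
    · exact absurd (hrot _ hu i hue) hu'
    rcases hve : φ ⟨v, hPH hv⟩ with j | j
    · exact absurd (hrot _ hv j hve) hv'
    refine hrot _ (mul_mem (show (⟨u, hPH hu⟩ : ↥H) ∈ P' from hu) hv) (j - i) ?_
    rw [map_mul, hue, hve, DihedralGroup.sr_mul_sr]
  · intro k
    rw [← hperiod k]
    constructor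
    · rintro ⟨x, hx, hxe⟩
      have : x = c ^ k := Subtype.ext (by simpa using hxe)
      exact this ▸ hx
    · intro h
      exact ⟨c ^ k, h, by simp⟩
  · intro h hh
    rcases hhe : φ ⟨h, hh⟩ with i | i
    · obtain ⟨k, hk⟩ := hrotdec _ i hhe
      exact ⟨k, ((c : G) ^ k)⁻¹ * h, hOP hk, by group⟩
    · obtain ⟨k, hk⟩ := hrotdec (⟨h, hh⟩ * p₀⁻¹) (j₀ - i) (by
        rw [map_mul, map_inv, hhe, hj₀, inv_eq_of_mul_eq_one_right (DihedralGroup.sr_mul_self j₀),
          DihedralGroup.sr_mul_sr])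
      refine ⟨k, ((c : G) ^ k)⁻¹ * h * (p₀ : G)⁻¹ * p₀, mul_mem ?_ hp₀, by group⟩
      have := hOP hk
      simpa [P', Subgroup.mem_subgroupOf, mul_assoc] using this
  · intro s hs hsO
    rcases hse : φ ⟨s, hPH hs⟩ with i | i
    · exact absurd ⟨_, hrot _ hs i hse, rfl⟩ hsO
    refine ⟨⟨s, hPH hs⟩ * c * ⟨s, hPH hs⟩⁻¹ * c, ?_, rfl⟩
    show _ ∈ O
    rw [← hmemO, map_mul, map_mul, map_mul, map_inv, hse, hc,
      inv_eq_of_mul_eq_one_right (DihedralGroup.sr_mul_self i)]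
    simp
  · obtain ⟨p, hp, hp'⟩ := hy2'
    refine ⟨p, hp, fun u hu => ?_⟩
    rw [← hp' u hu, pow_two]
    group
  · intro Q hQ hn' hy
    refine hyQ Q hQ ⟨fun x hx g => ?_⟩ ((smul_eq_cj y Q).trans hy)
    exact (hn' g g.2).le (conj_mem_cj (show (x : G) ∈ Q from hx))

end CfsgLib.Push85
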