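import Cfsg.Agent.Lib.Push85.Basic

/-!
The action of `H` on `V = Ω₁(Z(O))` when some element outside the rotations acts as a transvection.
-/

set_option autoImplicit false
set_option linter.style.haveILetI false
set_option linter.unusedSectionVars false

namespace CfsgLib.Push85

open scoped commutatorElement

variable {G : Type*} [Group G]

theorem mem_zpowers_two {w x : G} (hw : w * w = 1) :
    x ∈ Subgroup.zpowers w ↔ x = 1 ∨ x = w := by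
  constructor
  · intro h
    obtain ⟨i, rfl⟩ := Subgroup.mem_zpowers_iff.1 h
    have hw2 : w ^ (2 : ℤ) = 1 := by rw [show (2 : ℤ) = ((2 : ℕ) : ℤ) from rfl, zpow_natCast, pow_two, hw]
    rcases Int.even_or_odd' i with ⟨k, rfl | rfl⟩
    · left; rw [zpow_mul, hw2, one_zpow]
    · right; rw [zpow_add, zpow_mul, hw2, one_zpow, one_mul, zpow_one]
  · rintro (rfl | rfl)
    · exact one_mem _
    · exact Subgroup.mem_zpowers _

theorem commute_of_sq {g x : G} (hg : Odd (orderOf g)) (h : Commute (g ^ 2) x) : Commute g x := by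
  obtain ⟨m, hm⟩ := exists_pow_sq hg
  rw [← hm]
  exact h.pow_left m

namespace Setting

variable (S : Setting G)

/-- `[V, P]`. -/
def W : Subgroup G := ⁅S.V, S.P⁆

/-- The centralizer of the rotation in `V`. -/
def U : Subgroup G := S.V ⊓ Subgroup.centralizer {S.c}

theorem mem_U {x : G} : x ∈ S.U ↔ x ∈ S.V ∧ S.c * x * S.c⁻¹ = x := by
  rw [U, Subgroup.mem_inf, Subgroup.mem_centralizer_singleton_iff]
  constructor
  · rintro ⟨h1, h2⟩; exact ⟨h1, by rw [← h2]; group⟩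
  · rintro ⟨h1, h2⟩
    refine ⟨h1, ?_⟩
    conv_lhs => rw [← h2]
    group

theorem Z_fix {z p : G} (hz : z ∈ S.Z) (hp : p ∈ S.P) : p * z * p⁻¹ = z := by
  rw [← hz.2.2 p hp]; group

theorem Z_normal_P {A : Subgroup G} (hA : A ≤ S.Z) : ∀ p ∈ S.P, cj p A = A := by
  intro p hp
  ext x
  rw [mem_cj]
  constructor
  · intro hx
    have e := S.Z_fix (hA hx) hp
    have : x = p⁻¹ * x * p := by
      calc x = p * (p⁻¹ * x * p) * p⁻¹ := by group
        _ = _ := e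
    rwa [this]
  · intro hx
    have e : p⁻¹ * x * p = x := by rw [mul_assoc, (hA hx).2.2 p hp]; group
    rwa [e]

theorem O_fix {v o : G} (hv : v ∈ S.V) (ho : o ∈ S.O) : o * v * o⁻¹ = v := by
  rw [← S.V_comm hv ho]; group

/-- Some element outside the rotations is a transvection on `V`. -/
def Transv : Prop := ∃ s ∈ S.H, s ∉ S.rot ∧ ∀ u ∈ S.V, ∀ v ∈ S.V,
  s * u * s⁻¹ ≠ u → s * v * s⁻¹ ≠ v → s * (u * v) * s⁻¹ = u * v

/-- The structure of `V` as a module. -/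
structure ModData (w : G) : Prop where
  w_ne : w ≠ 1
  w_Z : w ∈ S.Z
  Z_V : S.Z ≤ S.V
  act : ∀ p ∈ S.P, p ∉ S.O → ∀ v ∈ S.V, v ∉ S.Z → p * v * p⁻¹ = v * w
  index : ∀ u ∈ S.V, ∀ v ∈ S.V, u ∉ S.Z → v ∉ S.Z → u * v ∈ S.Z
  cw_ne : S.c * w * S.c⁻¹ ≠ w
  cw_out : S.c * w * S.c⁻¹ ∉ S.Z
  cinv : S.c⁻¹ * w * S.c = w * (S.c * w * S.c⁻¹)
  U_le : S.U ≤ S.Z
  Z_eq : ∀ z ∈ S.Z, z ∈ S.U ∨ z * w ∈ S.U
  cube : ∀ v ∈ S.V, Commute (S.c ^ 3) v
  W_mem : ∀ x, x ∈ S.W ↔ x = 1 ∨ x = w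
  U_y : S.U ⊓ cj S.y S.U = ⊥
  U_two : ∀ u ∈ S.U, ∀ v ∈ S.U, u ≠ 1 → v ≠ 1 → u = v
  cases : cj S.y S.W = S.W ∨ (cj S.y S.W = S.U ∧ cj S.y S.U = S.W)

theorem exists_modData [Finite G] (hcc : ¬ S.CommC) (hT : S.Transv) : ∃ w, S.ModData w := by
  obtain ⟨s, hs, hsr, hsT⟩ := hT
  obtain ⟨j, p₀, hp₀, hp₀O, rfl⟩ := S.exists_conj_of_out hs hsr
  have hZV := S.Z_le_V hcc
  -- fixed points of `p₀` on `V` form `Z`
  have hfix : ∀ v ∈ S.V, p₀ * v * p₀⁻¹ = v → v ∈ S.Z := by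
    intro v hv hvf
    refine ⟨S.O_le hv.1, hv.2.1, fun a ha => ?_⟩
    have hc : v * p₀ = p₀ * v := by
      conv_lhs => rw [← hvf]
      group
    by_cases haO : a ∈ S.O
    · exact S.V_comm hv haO
    · have h1 := S.V_comm hv (S.P_two p₀ hp₀ a ha hp₀O haO)
      calc v * a = v * p₀⁻¹ * (p₀ * a) := by group
        _ = p₀⁻¹ * v * (p₀ * a) := by rw [show v * p₀⁻¹ = p₀⁻¹ * v from (Commute.inv_right (hc : Commute v p₀)).eq]
        _ = p₀⁻¹ * (v * (p₀ * a)) := by group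
        _ = p₀⁻¹ * (p₀ * a * v) := by rw [h1]
        _ = a * v := by group
  have hmov : ∀ v ∈ S.V, v ∉ S.Z → p₀ * v * p₀⁻¹ ≠ v := fun v hv hvZ h => hvZ (hfix v hv h)
  have index : ∀ u ∈ S.V, ∀ v ∈ S.V, u ∉ S.Z → v ∉ S.Z → u * v ∈ S.Z := by
    intro u hu v hv huZ hvZ
    refine hfix _ (mul_mem hu hv) ?_
    have hcj := pow_mem S.c_mem j
    have h := hsT _ (S.V_conj hcj hu) _ (S.V_conj hcj hv) ?_ ?_
    · calc p₀ * (u * v) * p₀⁻¹ = (S.c ^ j)⁻¹ * ((S.c ^ j * p₀ * (S.c ^ j)⁻¹) *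
            ((S.c ^ j * u * (S.c ^ j)⁻¹) * (S.c ^ j * v * (S.c ^ j)⁻¹)) *
            (S.c ^ j * p₀ * (S.c ^ j)⁻¹)⁻¹) * S.c ^ j := by group
        _ = (S.c ^ j)⁻¹ * ((S.c ^ j * u * (S.c ^ j)⁻¹) * (S.c ^ j * v * (S.c ^ j)⁻¹)) * S.c ^ j := by rw [h]
        _ = u * v := by group
    · intro h
      apply hmov u hu huZ
      calc p₀ * u * p₀⁻¹ = (S.c ^ j)⁻¹ * ((S.c ^ j * p₀ * (S.c ^ j)⁻¹) *
            (S.c ^ j * u * (S.c ^ j)⁻¹) * (S.c ^ j * p₀ * (S.c ^ j)⁻¹)⁻¹) * S.c ^ j := by group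
        _ = (S.c ^ j)⁻¹ * (S.c ^ j * u * (S.c ^ j)⁻¹) * S.c ^ j := by rw [h]
        _ = u := by group
    · intro h
      apply hmov v hv hvZ
      calc p₀ * v * p₀⁻¹ = (S.c ^ j)⁻¹ * ((S.c ^ j * p₀ * (S.c ^ j)⁻¹) *
            (S.c ^ j * v * (S.c ^ j)⁻¹) * (S.c ^ j * p₀ * (S.c ^ j)⁻¹)⁻¹) * S.c ^ j := by group
        _ = (S.c ^ j)⁻¹ * (S.c ^ j * v * (S.c ^ j)⁻¹) * S.c ^ j := by rw [h]
        _ = v := by group
  obtain ⟨v₀, hv₀, hv₀Z⟩ : ∃ v ∈ S.V, v ∉ S.Z := by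
    by_contra! h
    have e : S.Z = S.V := le_antisymm hZV h
    exact S.Z_ne (S.hyQ S.Z S.Z_le_P (e ▸ S.V_normal) S.Z_y)
  set w := p₀ * v₀ * p₀⁻¹ * v₀ with hwdef
  have hpv₀ : p₀ * v₀ * p₀⁻¹ ∈ S.V := S.V_conj (S.P_le hp₀) hv₀
  have hwV : w ∈ S.V := mul_mem hpv₀ hv₀
  have hact₀ : p₀ * v₀ * p₀⁻¹ = v₀ * w := by
    rw [hwdef, S.V_comm hpv₀ hv₀.1, ← mul_assoc v₀ v₀, hv₀.2.1, one_mul]
  have hw1 : w ≠ 1 := by
    intro h
    rw [h, mul_one] at hact₀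
    exact hmov v₀ hv₀ hv₀Z hact₀
  have hww : w * w = 1 := hwV.2.1
  have hwZ : w ∈ S.Z := by
    refine hfix _ hwV ?_
    have h2 : p₀ * p₀ * v₀ * (p₀ * p₀)⁻¹ = v₀ := S.O_fix hv₀ (S.sq_mem hp₀)
    calc p₀ * w * p₀⁻¹ = (p₀ * p₀ * v₀ * (p₀ * p₀)⁻¹) * (p₀ * v₀ * p₀⁻¹) := by rw [hwdef]; group
      _ = v₀ * (v₀ * w) := by rw [h2, hact₀]
      _ = w := by rw [← mul_assoc, hv₀.2.1, one_mul]
  have act : ∀ p ∈ S.P, p ∉ S.O → ∀ v ∈ S.V, v ∉ S.Z → p * v * p⁻¹ = v * w := by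
    intro p hp hpO v hv hvZ
    have ho : p₀⁻¹ * p ∈ S.O :=
      S.P_two _ (inv_mem hp₀) p hp (fun h => hp₀O (by simpa using inv_mem h)) hpO
    have hz := index v hv v₀ hv₀ hvZ hv₀Z
    calc p * v * p⁻¹ = p₀ * ((p₀⁻¹ * p) * v * (p₀⁻¹ * p)⁻¹) * p₀⁻¹ := by group
      _ = p₀ * v * p₀⁻¹ := by rw [S.O_fix hv ho]
      _ = (p₀ * (v * v₀) * p₀⁻¹) * (p₀ * v₀ * p₀⁻¹) := by
          conv_lhs => rw [show v = v * v₀ * v₀ by rw [mul_assoc, hv₀.2.1, mul_one]]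
          group
      _ = v * v₀ * (v₀ * w) := by rw [S.Z_fix hz hp₀, hact₀]
      _ = v * (v₀ * v₀) * w := by group
      _ = v * w := by rw [hv₀.2.1, mul_one]
  have hdich : ∀ v ∈ S.V, p₀ * v * p₀⁻¹ = v ∨ p₀ * v * p₀⁻¹ = v * w := fun v hv => by
    by_cases h : v ∈ S.Z
    · exact .inl (S.Z_fix h hp₀)
    · exact .inr (act p₀ hp₀ hp₀O v hv h)
  obtain ⟨o₁, ho₁, e₁⟩ := S.c_conj_out hp₀ hp₀O 1
  rw [pow_one] at e₁
  -- `p₀` swaps conjugation by `c` and by `c⁻¹`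
  have hswap : ∀ v ∈ S.V, p₀ * (S.c * v * S.c⁻¹) * p₀⁻¹ =
      S.c⁻¹ * (p₀ * v * p₀⁻¹) * S.c := by
    intro v hv
    have hu : S.c⁻¹ * (p₀ * v * p₀⁻¹) * S.c ∈ S.V := by
      simpa using S.V_conj (inv_mem S.c_mem) (S.V_conj (S.P_le hp₀) hv)
    calc p₀ * (S.c * v * S.c⁻¹) * p₀⁻¹
        = (p₀ * S.c * p₀⁻¹) * (p₀ * v * p₀⁻¹) * (p₀ * S.c * p₀⁻¹)⁻¹ := by group
      _ = o₁ * (S.c⁻¹ * (p₀ * v * p₀⁻¹) * S.c) * o₁⁻¹ := by rw [e₁]; group
      _ = _ := S.O_fix hu ho₁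
  have hcw : S.c * w * S.c⁻¹ ≠ w := by
    intro h
    have hc4 : ∀ v ∈ S.V, S.c * v * S.c⁻¹ = v := by
      intro v hv
      have hq : ∀ u ∈ S.V, S.c ^ 2 * u * (S.c ^ 2)⁻¹ = u ∨ S.c ^ 2 * u * (S.c ^ 2)⁻¹ = u * w := by
        intro u hu
        set x := S.c⁻¹ * u * S.c with hx
        have hxV : x ∈ S.V := by simpa using S.V_conj (inv_mem S.c_mem) hu
        have hux : u = S.c * x * S.c⁻¹ := by rw [hx]; group
        rw [hux]
        set y₁ := p₀ * (S.c * x * S.c⁻¹) * p₀⁻¹ with hy₁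
        have h3 : y₁ = S.c⁻¹ * (p₀ * x * p₀⁻¹) * S.c := hswap x hxV
        have h4 : S.c ^ 2 * y₁ * (S.c ^ 2)⁻¹ = S.c * (p₀ * x * p₀⁻¹) * S.c⁻¹ := by rw [h3]; group
        have h5 : S.c ^ 2 * w * (S.c ^ 2)⁻¹ = w := by
          calc S.c ^ 2 * w * (S.c ^ 2)⁻¹ = S.c * (S.c * w * S.c⁻¹) * S.c⁻¹ := by simp only [pow_two]; group
            _ = w := by rw [h, h]
        have hswallow : ∀ b : G, b * w * w = b := fun b => by rw [mul_assoc, hww, mul_one]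
        rcases hdich _ (S.V_conj S.c_mem hxV) with e | e <;>
          rcases hdich x hxV with e' | e' <;> rw [← hy₁] at e <;> rw [e, e'] at h4
        · exact .inl h4
        · refine .inr (h4.trans ?_)
          calc S.c * (x * w) * S.c⁻¹ = S.c * x * S.c⁻¹ * (S.c * w * S.c⁻¹) := by group
            _ = _ := by rw [h]
        · refine .inr ?_
          calc S.c ^ 2 * (S.c * x * S.c⁻¹) * (S.c ^ 2)⁻¹
              = S.c ^ 2 * (S.c * x * S.c⁻¹ * w) * (S.c ^ 2)⁻¹ * (S.c ^ 2 * w * (S.c ^ 2)⁻¹)⁻¹ := by group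
            _ = _ := by rw [h4, h5, inv_eq_of_mul_eq_one_right hww]
        · refine .inl ?_
          calc S.c ^ 2 * (S.c * x * S.c⁻¹) * (S.c ^ 2)⁻¹
              = S.c ^ 2 * (S.c * x * S.c⁻¹ * w) * (S.c ^ 2)⁻¹ * (S.c ^ 2 * w * (S.c ^ 2)⁻¹)⁻¹ := by group
            _ = S.c * (x * w) * S.c⁻¹ * w := by rw [h4, h5, inv_eq_of_mul_eq_one_right hww]
            _ = S.c * x * S.c⁻¹ * (S.c * w * S.c⁻¹) * w := by group
            _ = S.c * x * S.c⁻¹ := by rw [h, hswallow]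
      have h5 : S.c ^ 2 * w * (S.c ^ 2)⁻¹ = w := by
        calc S.c ^ 2 * w * (S.c ^ 2)⁻¹ = S.c * (S.c * w * S.c⁻¹) * S.c⁻¹ := by simp only [pow_two]; group
          _ = w := by rw [h, h]
      have h22 : S.c ^ 2 * (S.c ^ 2 * v * (S.c ^ 2)⁻¹) * (S.c ^ 2)⁻¹ = v := by
        rcases hq v hv with e | e
        · rw [e, e]
        · rw [e]
          calc S.c ^ 2 * (v * w) * (S.c ^ 2)⁻¹
              = (S.c ^ 2 * v * (S.c ^ 2)⁻¹) * (S.c ^ 2 * w * (S.c ^ 2)⁻¹) := by group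
            _ = v := by rw [e, h5, mul_assoc, hww, mul_one]
      have h4 : Commute ((S.c ^ 2) ^ 2) v := by
        have : S.c ^ 2 * S.c ^ 2 * v = v * (S.c ^ 2 * S.c ^ 2) := by
          conv_rhs => rw [← h22]
          group
        rw [pow_two (S.c ^ 2)]
        exact this
      have hodd : Odd (orderOf (S.c ^ 2)) := by
        rw [(Nat.coprime_two_right.2 S.c_odd).orderOf_pow]
        exact S.c_odd
      have hcv : Commute S.c v := commute_of_sq S.c_odd (commute_of_sq hodd h4)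
      rw [hcv.eq]; group
    obtain ⟨z, hz, hne⟩ := S.c_moves_Z
    exact hne (hc4 z (hZV hz))
  have hcwV : S.c * w * S.c⁻¹ ∈ S.V := S.V_conj S.c_mem hwV
  have hpcw : p₀ * (S.c * w * S.c⁻¹) * p₀⁻¹ = S.c⁻¹ * w * S.c := by
    rw [hswap w hwV, S.Z_fix hwZ hp₀]
  have hfixc2 : ∀ z, S.c⁻¹ * z * S.c = S.c * z * S.c⁻¹ → S.c * z * S.c⁻¹ = z := by
    intro z h
    have h2 : Commute (S.c ^ 2) z := by
      show S.c ^ 2 * z = z * S.c ^ 2
      calc S.c ^ 2 * z = S.c * (S.c * z * S.c⁻¹) * S.c := by simp only [pow_two]; group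
        _ = S.c * (S.c⁻¹ * z * S.c) * S.c := by rw [h]
        _ = _ := by simp only [pow_two]; group
    rw [(commute_of_sq S.c_odd h2).eq]; group
  have hcwZ : S.c * w * S.c⁻¹ ∉ S.Z := by
    intro h
    rw [S.Z_fix h hp₀] at hpcw
    exact hcw (hfixc2 w hpcw.symm)
  have hcinv : S.c⁻¹ * w * S.c = w * (S.c * w * S.c⁻¹) := by
    rw [← hpcw, act p₀ hp₀ hp₀O _ hcwV hcwZ, S.V_comm hwV hcwV.1]
  have hUle : S.U ≤ S.Z := by
    intro u hu
    obtain ⟨huV, huc⟩ := S.mem_U.1 hu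
    by_contra huZ
    have h1 := hswap u huV
    rw [huc, act p₀ hp₀ hp₀O u huV huZ] at h1
    have hucinv : S.c⁻¹ * u * S.c = u := by
      calc S.c⁻¹ * u * S.c = S.c⁻¹ * (S.c * u * S.c⁻¹) * S.c := by rw [huc]
        _ = u := by group
    have h2 : S.c⁻¹ * w * S.c = w := by
      calc S.c⁻¹ * w * S.c = (S.c⁻¹ * u * S.c)⁻¹ * (S.c⁻¹ * (u * w) * S.c) := by group
        _ = u⁻¹ * (u * w) := by rw [hucinv, ← h1]
        _ = w := by group
    apply hcw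
    calc S.c * w * S.c⁻¹ = S.c * (S.c⁻¹ * w * S.c) * S.c⁻¹ := by rw [h2]
      _ = w := by group
  have hZeq : ∀ z ∈ S.Z, z ∈ S.U ∨ z * w ∈ S.U := by
    intro z hz
    have hzV := hZV hz
    have hcz := S.V_conj S.c_mem hzV
    have h1 : p₀ * (S.c * z * S.c⁻¹) * p₀⁻¹ = S.c⁻¹ * z * S.c := by
      rw [hswap z hzV, S.Z_fix hz hp₀]
    by_cases h : S.c * z * S.c⁻¹ ∈ S.Z
    · rw [S.Z_fix h hp₀] at h1
      exact .inl (S.mem_U.2 ⟨hzV, hfixc2 z h1.symm⟩)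
    · rw [act p₀ hp₀ hp₀O _ hcz h] at h1
      refine .inr (S.mem_U.2 ⟨mul_mem hzV hwV, hfixc2 _ ?_⟩)
      calc S.c⁻¹ * (z * w) * S.c = (S.c⁻¹ * z * S.c) * (S.c⁻¹ * w * S.c) := by group
        _ = (S.c * z * S.c⁻¹ * w) * (w * (S.c * w * S.c⁻¹)) := by rw [← h1, hcinv]
        _ = S.c * z * S.c⁻¹ * (w * w) * (S.c * w * S.c⁻¹) := by group
        _ = S.c * (z * w) * S.c⁻¹ := by rw [hww, mul_one]; group
  have hcube : ∀ v ∈ S.V, Commute (S.c ^ 3) v := by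
    have hU : ∀ u ∈ S.U, Commute (S.c ^ 3) u := fun u hu => by
      have : Commute S.c u := by
        show S.c * u = u * S.c
        conv_rhs => rw [← (S.mem_U.1 hu).2]
        group
      exact this.pow_left 3
    have hw3 : Commute (S.c ^ 3) w := by
      have e : S.c ^ 2 * w * (S.c ^ 2)⁻¹ = (S.c * w * S.c⁻¹) * w := by
        calc S.c ^ 2 * w * (S.c ^ 2)⁻¹
            = S.c * ((S.c * w * S.c⁻¹)) * S.c⁻¹ := by simp only [pow_two]; group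
          _ = S.c * (w⁻¹ * (S.c⁻¹ * w * S.c)) * S.c⁻¹ := by rw [hcinv]; group
          _ = (S.c * w * S.c⁻¹)⁻¹ * w := by group
          _ = _ := by rw [S.V_inv hcwV]
      have e' : S.c ^ 3 * w * (S.c ^ 3)⁻¹ = w := by
        calc S.c ^ 3 * w * (S.c ^ 3)⁻¹ = S.c * (S.c ^ 2 * w * (S.c ^ 2)⁻¹) * S.c⁻¹ := by group
          _ = (S.c ^ 2 * w * (S.c ^ 2)⁻¹) * (S.c * w * S.c⁻¹) := by nth_rewrite 1 [e]; simp only [pow_two]; group
          _ = (w * (S.c * w * S.c⁻¹)) * (S.c * w * S.c⁻¹) := by rw [e, ← S.V_comm hwV hcwV.1]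
          _ = w := by rw [mul_assoc, hcwV.2.1, mul_one]
      show S.c ^ 3 * w = w * S.c ^ 3
      conv_rhs => rw [← e']
      group
    have hcw3 : Commute (S.c ^ 3) (S.c * w * S.c⁻¹) :=
      (((Commute.refl S.c).pow_left 3).mul_right hw3).mul_right ((Commute.refl S.c).pow_left 3).inv_right
    have hZ3 : ∀ z ∈ S.Z, Commute (S.c ^ 3) z := fun z hz => by
      rcases hZeq z hz with h | h
      · exact hU z h
      · have := (hU _ h).mul_right hw3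
        rwa [mul_assoc, hww, mul_one] at this
    intro v hv
    by_cases h : v ∈ S.Z
    · exact hZ3 v h
    · have := (hZ3 _ (index v hv _ hcwV h hcwZ)).mul_right hcw3
      rwa [mul_assoc, hcwV.2.1, mul_one] at this
  have hWmem : ∀ x, x ∈ S.W ↔ x = 1 ∨ x = w := by
    intro x
    rw [← mem_zpowers_two hww]
    constructor
    · revert x
      show S.W ≤ Subgroup.zpowers w
      refine Subgroup.commutator_le.2 fun v hv p hp => ?_
      rw [commutatorElement_def, S.V_inv hv, mem_zpowers_two hww]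
      have hvp : v * (p * v * p⁻¹) = v * p * v * p⁻¹ := by group
      rw [← hvp]
      by_cases hvZ : v ∈ S.Z
      · rw [S.Z_fix hvZ hp]; exact .inl hv.2.1
      by_cases hpO : p ∈ S.O
      · rw [S.O_fix hv hpO]; exact .inl hv.2.1
      · rw [act p hp hpO v hv hvZ, ← mul_assoc, hv.2.1, one_mul]; exact .inr rfl
    · intro hx
      refine (Subgroup.zpowers_le.2 ?_ : Subgroup.zpowers w ≤ S.W) hx
      have := Subgroup.commutator_mem_commutator hv₀ hp₀ (H₁ := S.V) (H₂ := S.P)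
      rw [commutatorElement_def, S.V_inv hv₀] at this
      have e : v₀ * p₀ * v₀ * p₀⁻¹ = w := by
        calc v₀ * p₀ * v₀ * p₀⁻¹ = v₀ * (p₀ * v₀ * p₀⁻¹) := by group
          _ = w := by rw [hact₀, ← mul_assoc, hv₀.2.1, one_mul]
      rw [← e]; exact this
  have hUy : S.U ⊓ cj S.y S.U = ⊥ := by
    have hle : S.U ⊓ cj S.y S.U ≤ S.U := inf_le_left
    have hnP := S.Z_normal_P (hle.trans hUle)
    refine S.hyQ _ (hle.trans (hUle.trans S.Z_le_P)) (S.cj_H_eq ?_ hnP) ?_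
    · ext x
      rw [mem_cj]
      constructor
      · intro hx
        have e := (S.mem_U.1 (hle hx)).2
        have : x = S.c⁻¹ * x * S.c := by
          calc x = S.c * (S.c⁻¹ * x * S.c) * S.c⁻¹ := by group
            _ = _ := e
        rwa [this]
      · intro hx
        have e := (S.mem_U.1 (hle hx)).2
        have : S.c⁻¹ * x * S.c = x := by
          calc S.c⁻¹ * x * S.c = S.c⁻¹ * (S.c * x * S.c⁻¹) * S.c := by rw [e]
            _ = x := by group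
        rwa [this]
    · rw [cj_inf, S.y_y (hUle.trans S.Z_le_P) (S.Z_normal_P hUle), inf_comm]
  have hyU : cj S.y S.U ≤ S.Z := (cj_mono hUle).trans S.Z_y.le
  have hU2 : ∀ u ∈ S.U, ∀ v ∈ S.U, u ≠ 1 → v ≠ 1 → u = v := by
    intro u hu v hv hu1 hv1
    have key : ∀ a ∈ S.U, a ≠ 1 → S.y * a * S.y⁻¹ * w ∈ S.U := by
      intro a ha ha1
      refine (hZeq _ (hyU (conj_mem_cj ha))).resolve_left fun h => ha1 ?_
      have : S.y * a * S.y⁻¹ ∈ S.U ⊓ cj S.y S.U := ⟨h, conj_mem_cj ha⟩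
      rw [hUy, Subgroup.mem_bot] at this
      exact (conj_eq_one_iff).1 this
    have h1 : S.y * (u * v⁻¹) * S.y⁻¹ ∈ S.U := by
      have := mul_mem (key u hu hu1) (inv_mem (key v hv hv1))
      convert this using 1
      group
    have : S.y * (u * v⁻¹) * S.y⁻¹ ∈ S.U ⊓ cj S.y S.U :=
      ⟨h1, conj_mem_cj (mul_mem hu (inv_mem hv))⟩
    rw [hUy, Subgroup.mem_bot] at this
    exact mul_inv_eq_one.1 (conj_eq_one_iff.1 this)
  refine ⟨w, hw1, hwZ, hZV, act, index, hcw, hcwZ, hcinv, hUle, hZeq, hcube, hWmem, hUy, hU2, ?_⟩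
  -- the action of `y`
  have hWle : S.W ≤ S.Z := fun x hx => by
    rcases (hWmem x).1 hx with rfl | rfl
    · exact one_mem _
    · exact hwZ
  have hywZ : S.y * w * S.y⁻¹ ∈ S.Z := S.Z_y.le (conj_mem_cj hwZ)
  have hyw1 : S.y * w * S.y⁻¹ ≠ 1 := fun h => hw1 (conj_eq_one_iff.1 h)
  have hyy : ∀ A : Subgroup G, A ≤ S.Z → cj S.y (cj S.y A) = A := fun A hA =>
    S.y_y (hA.trans S.Z_le_P) (S.Z_normal_P hA)
  by_cases hfw : S.y * w * S.y⁻¹ = w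
  · left
    refine le_antisymm ?_ ?_
    · rintro _ ⟨x, hx, rfl⟩
      show S.y * x * S.y⁻¹ ∈ S.W
      rcases (hWmem x).1 hx with rfl | rfl
      · simp
      · rw [hfw]; exact hx
    · intro x hx
      rcases (hWmem x).1 hx with rfl | rfl
      · exact one_mem _
      · exact hfw ▸ conj_mem_cj hx
  right
  -- the image of `w` is the involution of `U`
  have hywU : S.y * w * S.y⁻¹ ∈ S.U := by
    refine (hZeq _ hywZ).resolve_right fun hu => ?_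
    set u := S.y * w * S.y⁻¹ * w with hudef
    have hu1 : u ≠ 1 := fun h => hfw (by
      rw [eq_inv_of_mul_eq_one_left h, inv_eq_of_mul_eq_one_right hww])
    obtain ⟨p, hp, hyp⟩ := S.y_sq
    have h2 : S.y * (S.y * w * S.y⁻¹) * S.y⁻¹ = w := by
      rw [hyp w (S.Z_le_P hwZ), S.Z_fix hwZ hp]
    have e : S.y * u * S.y⁻¹ = u := by
      calc S.y * u * S.y⁻¹ = (S.y * (S.y * w * S.y⁻¹) * S.y⁻¹) * (S.y * w * S.y⁻¹) := by
            rw [hudef]; group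
        _ = u := by rw [h2, hudef, hwZ.2.2 _ (S.Z_le_P hywZ)]
    have : u ∈ S.U ⊓ cj S.y S.U := ⟨hu, e ▸ conj_mem_cj hu⟩
    rw [hUy, Subgroup.mem_bot] at this
    exact hu1 this
  have hWU : cj S.y S.W = S.U := by
    refine le_antisymm ?_ fun x hx => ?_
    · rintro _ ⟨x, hx, rfl⟩
      show S.y * x * S.y⁻¹ ∈ S.U
      rcases (hWmem x).1 hx with rfl | rfl
      · simp
      · exact hywU
    · by_cases hx1 : x = 1
      · subst hx1; exact one_mem _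
      · rw [hU2 x hx _ hywU hx1 hyw1]
        exact conj_mem_cj ((hWmem w).2 (.inr rfl))
  exact ⟨hWU, by rw [← hWU, hyy _ hWle]⟩

end Setting

end CfsgLib.Push85
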