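import Cfsg.Agent.Lib.Push85.Critical
import Cfsg.Agent.Lib.PCore.Basic
import Cfsg.Prelude.Def_CaseTheorems

/-!
The structure of `H` in the dihedral pushing-up configuration.
-/

set_option autoImplicit false
set_option linter.style.haveILetI false
set_option linter.unusedSectionVars false

namespace CfsgLib.Push85

open scoped commutatorElement

variable {G : Type*} [Group G]

theorem eq_one_of_odd_two {x : G} {N : ℕ} (hN : Odd N) (h1 : x ^ N = 1) {i : ℕ}
    (h2 : x ^ 2 ^ i = 1) : x = 1 := by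
  have h := pow_gcd_eq_one.2 ⟨h1, h2⟩
  rwa [Nat.Coprime.pow_right i (Nat.coprime_two_right.2 hN), pow_one] at h

instance isKleinFour_prod :
    IsKleinFour (Multiplicative (ZMod 2) × Multiplicative (ZMod 2)) where
  card_four := by simp
  exponent_two := by simp [Monoid.exponent_prod]

namespace Setting

variable (S : Setting G)

/-- The conclusion. -/
def Concl : Prop :=
  (Nat.card S.P = 4 ∨ Nat.card S.P = 8 ∨ Nat.card S.P = 16) ∧
    (Nonempty (↥S.H ⧸ Cfsg.oddCore ↥S.H ≃* Multiplicative (ZMod 2) × Multiplicative (ZMod 2)) ∨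
      Nonempty (↥S.H ⧸ Cfsg.oddCore ↥S.H ≃* Equiv.Perm (Fin 4)) ∨
      Nonempty (↥S.H ⧸ Cfsg.oddCore ↥S.H ≃* Equiv.Perm (Fin 4) × Multiplicative (ZMod 2)))

theorem card_P [Finite G] : Nat.card S.P = 2 * Nat.card S.O := by
  have hidx : (S.O.subgroupOf S.P).index = 2 := by
    rw [Subgroup.index_eq_two_iff]
    obtain ⟨t, ht, htO⟩ := S.P_out
    refine ⟨⟨t, ht⟩, fun b => ?_⟩
    simp only [Subgroup.mem_subgroupOf, Subgroup.coe_mul]
    by_cases hb : (b : G) ∈ S.O
    · exact .inr ⟨hb, fun h => htO (by simpa using mul_mem (inv_mem hb) h)⟩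
    · exact .inl ⟨S.P_two _ b.2 t ht hb htO, hb⟩
  rw [← Subgroup.index_mul_card (S.O.subgroupOf S.P), hidx,
    Nat.card_congr (Subgroup.subgroupOfEquivOfLe S.O_le).toEquiv]

theorem c_pow_n : S.c ^ S.n = 1 := by
  have hO := (S.c_period S.n).2 dvd_rfl
  obtain ⟨i, hi⟩ := S.isP ⟨_, S.O_le hO⟩
  refine eq_one_of_odd_two S.c_odd ?_ (i := i) (by simpa using congrArg Subtype.val hi)
  rw [← pow_mul, mul_comm, pow_mul, pow_orderOf_eq_one, one_pow]

theorem pow_n_mem {g : G} (hg : g ∈ S.rot) : g ^ S.n ∈ S.O := by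
  obtain ⟨k, o, ho, rfl⟩ := hg
  have key : ∀ m : ℕ, ∃ o' ∈ S.O, (S.c ^ k * o) ^ m = S.c ^ (k * m) * o' := by
    intro m
    induction m with
    | zero => exact ⟨1, S.O.one_mem, by simp⟩
    | succ m ih =>
      obtain ⟨o', ho', e⟩ := ih
      refine ⟨((S.c ^ k)⁻¹ * o' * S.c ^ k) * o, mul_mem (S.O_conj' (pow_mem S.c_mem k) ho') ho, ?_⟩
      rw [pow_succ, e, mul_add, mul_one, pow_add]; group
  obtain ⟨o', ho', e⟩ := key S.n
  rw [e, mul_comm k, pow_mul, S.c_pow_n, one_pow, one_mul]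
  exact ho'

theorem concl_of_commC [Finite G] (hcc : S.CommC) : S.Concl := by
  -- the rotation is inverted
  have hinv : ∀ p ∈ S.P, p ∉ S.O → p * S.c * p⁻¹ = S.c⁻¹ := by
    intro p hp hpO
    have ho := S.inverts p hp hpO
    set o := p * S.c * p⁻¹ * S.c with hodef
    have e : p * S.c * p⁻¹ = o * S.c⁻¹ := by rw [hodef]; group
    have h1 : (o * S.c⁻¹) ^ orderOf S.c = 1 := by
      rw [← e, conj_pow, pow_orderOf_eq_one, mul_one, mul_inv_cancel]
    have hc : Commute o S.c⁻¹ := (Commute.symm (hcc o ho : Commute S.c o)).inv_right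
    rw [hc.mul_pow, inv_pow, pow_orderOf_eq_one, inv_one, mul_one] at h1
    obtain ⟨i, hi⟩ := S.isP ⟨o, S.O_le ho⟩
    rw [e, eq_one_of_odd_two S.c_odd h1 (i := i) (by simpa using congrArg Subtype.val hi), one_mul]
  have hD : S.O ⊓ cj S.y S.O = ⊥ := by
    refine S.hyQ _ (inf_le_left.trans S.O_le) (S.cj_H_eq ?_ ?_) ?_
    · ext x
      rw [mem_cj]
      constructor <;> intro hx
      · have h := hcc _ (inf_le_left (a := S.O) hx)
        have e : x = S.c⁻¹ * x * S.c := by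
          calc x = S.c * (S.c⁻¹ * x * S.c) * S.c⁻¹ := by group
            _ = _ := by rw [h]; group
        rwa [e]
      · have h := hcc _ (inf_le_left (a := S.O) hx)
        have e : S.c⁻¹ * x * S.c = x := by rw [mul_assoc, ← h]; group
        rwa [e]
    · intro p hp
      rw [cj_inf, S.O_P_normal p hp, S.cj_y_normal S.O_P_normal p hp]
    · rw [cj_inf, S.y_y S.O_le S.O_P_normal, inf_comm]
  obtain ⟨t, ht, htO⟩ := S.exists_out_yO
  have htP : t ∈ S.P := S.y_O_le ht
  have hyO : ∀ x ∈ cj S.y S.O, x = 1 ∨ x = t⁻¹ := by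
    intro x hx
    by_cases hxO : x ∈ S.O
    · have : x ∈ S.O ⊓ cj S.y S.O := ⟨hxO, hx⟩
      rw [hD, Subgroup.mem_bot] at this
      exact .inl this
    · have : t * x ∈ S.O ⊓ cj S.y S.O := ⟨S.P_two t htP x (S.y_O_le hx) htO hxO, mul_mem ht hx⟩
      rw [hD, Subgroup.mem_bot] at this
      exact .inr (eq_inv_of_mul_eq_one_right this)
  have htt : t * t = 1 := by
    rcases hyO t ht with h | h
    · exact absurd (h ▸ S.O.one_mem) htO
    · nth_rewrite 2 [h]; exact mul_inv_cancel t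
  have hO2 : Nat.card S.O = 2 := by
    obtain ⟨o, ho, rfl⟩ := ht
    rw [Nat.card_eq_two_iff' (1 : S.O)]
    refine ⟨⟨o, ho⟩, ?_, ?_⟩
    · intro h
      apply htO
      rw [show o = 1 from congrArg Subtype.val h, map_one]
      exact one_mem _
    · rintro ⟨b, hb⟩ hb1
      rcases hyO _ (conj_mem_cj (g := S.y) hb) with h | h
      · exact absurd (Subtype.ext (conj_eq_one_iff.1 h)) hb1
      · rw [inv_eq_of_mul_eq_one_right htt] at h
        exact Subtype.ext ((MulAut.conj S.y).injective h)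
  have hP4 : Nat.card S.P = 4 := by rw [S.card_P, hO2]
  refine ⟨.inl hP4, .inl ?_⟩
  have hsq : ∀ p ∈ S.P, p * p = 1 := by
    have hOsq : ∀ o ∈ S.O, o * o = 1 := by
      intro o ho
      have := pow_card_eq_one' (x := (⟨o, ho⟩ : S.O))
      rw [hO2, pow_two] at this
      exact congrArg Subtype.val this
    have htc : ∀ o ∈ S.O, Commute t o := by
      intro o ho
      by_cases ho1 : o = 1
      · subst ho1; exact Commute.one_right t
      have h1 := (Nat.card_eq_two_iff' (1 : S.O)).1 hO2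
      have h2 := h1.unique (y₁ := (⟨o, ho⟩ : S.O))
        (y₂ := ⟨t * o * t⁻¹, S.O_conj (S.P_le htP) ho⟩)
        (fun h => ho1 (congrArg Subtype.val h))
        (fun h => ho1 (conj_eq_one_iff.1 (congrArg Subtype.val h)))
      have h3 : o = t * o * t⁻¹ := congrArg Subtype.val h2
      show t * o = o * t
      conv_rhs => rw [h3]
      group
    intro p hp
    by_cases hpO : p ∈ S.O
    · exact hOsq p hpO
    · have ho := S.P_two t htP p hp htO hpO
      calc p * p = (t * t) * p * p := by rw [htt, one_mul]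
        _ = t * ((t * p) * p) := by group
        _ = t * ((t * p) * ((t * t) * p)) := by rw [htt, one_mul]
        _ = t * (((t * p) * t) * (t * p)) := by group
        _ = t * ((t * (t * p)) * (t * p)) := by rw [(htc _ ho).symm.eq]
        _ = (t * t) * ((t * p) * (t * p)) := by group
        _ = 1 := by rw [htt, hOsq _ ho, mul_one]
  -- the quotient by the rotation
  let c' : ↥S.H := ⟨S.c, S.c_mem⟩
  let C : Subgroup ↥S.H := Subgroup.zpowers c'
  let P' : Subgroup ↥S.H := S.P.subgroupOf S.H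
  have hCp : ∀ p ∈ S.P, ∀ hpH : p ∈ S.H,
      (⟨p, hpH⟩ : ↥S.H) * c' * (⟨p, hpH⟩ : ↥S.H)⁻¹ ∈ C := by
    intro p hp hpH
    by_cases hpO : p ∈ S.O
    · have e : (⟨p, hpH⟩ : ↥S.H) * c' * (⟨p, hpH⟩ : ↥S.H)⁻¹ = c' :=
        Subtype.ext (show p * S.c * p⁻¹ = S.c by rw [← hcc p hpO]; group)
      rw [e]; exact Subgroup.mem_zpowers c'
    · have e : (⟨p, hpH⟩ : ↥S.H) * c' * (⟨p, hpH⟩ : ↥S.H)⁻¹ = c'⁻¹ :=
        Subtype.ext (show p * S.c * p⁻¹ = S.c⁻¹ from hinv p hp hpO)
      rw [e]; exact inv_mem (Subgroup.mem_zpowers c')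
  haveI hCn : C.Normal := by
    refine ⟨fun x hx g => ?_⟩
    obtain ⟨i, rfl⟩ := Subgroup.mem_zpowers_iff.1 hx
    rw [← conj_zpow]
    refine zpow_mem ?_ i
    obtain ⟨g, hg⟩ := g
    obtain ⟨k, p, hp, rfl⟩ := S.decomp g hg
    have e : (⟨S.c ^ k * p, hg⟩ : ↥S.H) * c' * (⟨S.c ^ k * p, hg⟩ : ↥S.H)⁻¹ =
        c' ^ k * ((⟨p, S.P_le hp⟩ : ↥S.H) * c' * (⟨p, S.P_le hp⟩ : ↥S.H)⁻¹) * (c' ^ k)⁻¹ :=
      Subtype.ext (show S.c ^ k * p * S.c * (S.c ^ k * p)⁻¹ =
        S.c ^ k * (p * S.c * p⁻¹) * (S.c ^ k)⁻¹ by group)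
    rw [e]
    exact mul_mem (mul_mem (pow_mem (Subgroup.mem_zpowers c') k) (hCp p hp _))
      (inv_mem (pow_mem (Subgroup.mem_zpowers c') k))
  have hdisj : Disjoint P' C := by
    rw [disjoint_iff, eq_bot_iff]
    rintro x ⟨hx, hxC⟩
    obtain ⟨i, rfl⟩ := Subgroup.mem_zpowers_iff.1 hxC
    obtain ⟨j, hj⟩ := S.isP ⟨_, hx⟩
    refine Subtype.ext (eq_one_of_odd_two S.c_odd ?_ (i := j) (by simpa using congrArg Subtype.val hj))
    show ((c' ^ i : ↥S.H) : G) ^ orderOf S.c = 1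
    rw [Subgroup.coe_zpow, ← zpow_natCast, ← zpow_mul, mul_comm, zpow_mul, zpow_natCast,
      pow_orderOf_eq_one, one_zpow]
  have hcompl : P'.IsComplement' C := by
    refine Subgroup.isComplement'_of_disjoint_and_mul_eq_univ hdisj ?_
    rw [Set.eq_univ_iff_forall]
    rintro ⟨h, hh⟩
    obtain ⟨k, p, hp, rfl⟩ := S.decomp h hh
    refine ⟨⟨p, S.P_le hp⟩, hp, (⟨p, S.P_le hp⟩ : ↥S.H)⁻¹ * c' ^ k * ⟨p, S.P_le hp⟩, ?_,
      Subtype.ext ?_⟩
    · simpa using hCn.conj_mem _ (pow_mem (Subgroup.mem_zpowers c') k) (⟨p, S.P_le hp⟩ : ↥S.H)⁻¹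
    · show p * (p⁻¹ * S.c ^ k * p) = S.c ^ k * p
      group
  have e1 : ↥S.H ⧸ C ≃* P' := hcompl.QuotientMulEquiv
  have hP'4 : Nat.card P' = 4 := by
    rw [Nat.card_congr (Subgroup.subgroupOfEquivOfLe S.P_le).toEquiv, hP4]
  haveI : IsKleinFour P' := by
    refine ⟨hP'4, ?_⟩
    haveI : Nontrivial P' := Finite.one_lt_card_iff_nontrivial.1 (by rw [hP'4]; norm_num)
    refine Monoid.exponent_eq_prime_iff Nat.prime_two |>.2 fun x hx => ?_
    refine orderOf_eq_prime ?_ hx
    apply Subtype.ext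
    apply Subtype.ext
    rw [pow_two]
    exact hsq _ x.2
  obtain ⟨e2⟩ := IsKleinFour.nonempty_mulEquiv (G₁ := P')
    (G₂ := Multiplicative (ZMod 2) × Multiplicative (ZMod 2))
  have hcore : Cfsg.oddCore ↥S.H = C := by
    refine le_antisymm (fun q hq => ?_) (CfsgLib.PCore.le_pPrimeCore hCn ?_)
    · have h1 : orderOf q ∣ Nat.card (Cfsg.oddCore ↥S.H) := by
        rw [← Subgroup.orderOf_mk q hq]; exact orderOf_dvd_natCard _
      have h2 : Odd (orderOf q) := Nat.coprime_two_right.1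
        (CfsgLib.PCore.pPrimeCore_coprime.coprime_dvd_left h1)
      rw [← QuotientGroup.eq_one_iff]
      refine eq_one_of_odd_two h2 ?_ (i := 2) ?_
      · rw [← QuotientGroup.mk_pow, pow_orderOf_eq_one, QuotientGroup.mk_one]
      · apply e1.injective
        have h4 := pow_card_eq_one' (x := e1 (q : ↥S.H ⧸ C))
        rw [hP'4] at h4
        rw [map_pow, map_one]
        exact h4
    · rw [Nat.card_zpowers, ← Subgroup.orderOf_coe]
      exact Nat.coprime_two_right.2 S.c_odd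
  exact ⟨((QuotientGroup.quotientMulEquivOfEq hcore).trans e1).trans e2⟩

theorem concl_of_not_commC [Finite G] (hcc : ¬ S.CommC) : S.Concl := by
  obtain ⟨v₀, hv₀, hv₀O⟩ := SetLike.not_le_iff_exists.1 (not_V_le_yO hcc)
  set t := S.y * v₀ * S.y⁻¹ with htdef
  have htyV : t ∈ cj S.y S.V := conj_mem_cj hv₀
  have htP : t ∈ S.P := S.yV_le_P htyV
  have htO : t ∉ S.O := by
    intro h
    apply hv₀O
    rw [← S.y_inv S.O_le S.O_P_normal, mem_cj, inv_inv]
    exact h
  have htt : t * t = 1 := by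
    rw [htdef]
    calc _ = S.y * (v₀ * v₀) * S.y⁻¹ := by group
      _ = 1 := by rw [hv₀.2.1]; group
  have htc : ∀ d ∈ cj S.y S.O, t * d = d * t := fun d hd => comm_V_O htyV hd
  have hPy : S.P ≤ cj S.y S.H := S.y_P.ge.trans (cj_mono S.P_le)
  have hT : S.Transv := by
    refine ⟨t, S.P_le htP, S.not_mem_rot htP htO, fun u hu v hv hu' hv' => ?_⟩
    have key : ∀ x : G, t * x * t⁻¹ ≠ x → x ∉ cj S.y S.O :=
      fun x hx h => hx (by rw [htc x h]; group)
    have h := two_mul_cj S.isP hPy (S.V_le_P hu) (S.V_le_P hv) (key u hu') (key v hv')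
    rw [htc _ h]; group
  obtain ⟨w, M⟩ := S.exists_modData hcc hT
  -- `O` is elementary abelian
  let Sq : Subgroup G := Subgroup.closure {x | ∃ d ∈ S.O ⊓ cj S.y S.O, x = d * d}
  have hdec : ∀ o ∈ S.O, ∃ d ∈ S.O ⊓ cj S.y S.O, o * o = d * d := by
    intro o ho
    by_cases h : o ∈ cj S.y S.O
    · exact ⟨o, ⟨ho, h⟩, rfl⟩
    · refine ⟨o * v₀, ⟨mul_mem ho hv₀.1, two_mul_cj S.isP hPy (S.O_le ho) (S.V_le_P hv₀) h hv₀O⟩, ?_⟩
      calc o * o = o * o * (v₀ * v₀) := by rw [hv₀.2.1, mul_one]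
        _ = o * (o * v₀) * v₀ := by group
        _ = o * (v₀ * o) * v₀ := by rw [S.V_comm hv₀ ho]
        _ = _ := by group
  have hSqle : Sq ≤ S.O := (Subgroup.closure_le _).2 (by
    rintro _ ⟨d, hd, rfl⟩; exact mul_mem hd.1 hd.1)
  have hSqn : ∀ h ∈ S.H, cj h Sq = Sq := by
    have : ∀ h ∈ S.H, cj h Sq ≤ Sq := by
      intro h hh
      refine Subgroup.map_le_iff_le_comap.2 ((Subgroup.closure_le _).2 ?_)
      rintro _ ⟨d, hd, rfl⟩
      obtain ⟨d', hd', e⟩ := hdec _ (S.O_conj hh hd.1)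
      show h * (d * d) * h⁻¹ ∈ Sq
      rw [show h * (d * d) * h⁻¹ = h * d * h⁻¹ * (h * d * h⁻¹) by group, e]
      exact Subgroup.subset_closure ⟨d', hd', rfl⟩
    exact fun h hh => cj_eq_of_le (this h hh) (this _ (inv_mem hh))
  have hSqy : cj S.y Sq = Sq := by
    have key : ∀ e : G, (e = S.y ∨ e = S.y⁻¹) → cj e Sq ≤ Sq := by
      intro e he
      refine Subgroup.map_le_iff_le_comap.2 ((Subgroup.closure_le _).2 ?_)
      rintro _ ⟨d, hd, rfl⟩
      refine Subgroup.subset_closure ⟨e * d * e⁻¹, ?_, ?_⟩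
      · have h1 : e * d * e⁻¹ ∈ cj e (S.O ⊓ cj S.y S.O) := conj_mem_cj hd
        rwa [e_eq he (inf_le_left.trans S.O_le) (fun p hp => by
          rw [cj_inf, S.O_P_normal p hp, S.cj_y_normal S.O_P_normal p hp]), cj_inf,
          S.y_y S.O_le S.O_P_normal, inf_comm] at h1
      · show e * (d * d) * e⁻¹ = _
        group
    exact cj_eq_of_le (key _ (.inl rfl)) (key _ (.inr rfl))
  have hOsq : ∀ o ∈ S.O, o * o = 1 := by
    intro o ho
    obtain ⟨d, hd, e⟩ := hdec o ho
    have : o * o ∈ Sq := e ▸ Subgroup.subset_closure ⟨d, hd, rfl⟩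
    rwa [S.hyQ Sq (hSqle.trans S.O_le) hSqn hSqy, Subgroup.mem_bot] at this
  have hOV : S.O ≤ S.V := fun o ho => ⟨ho, hOsq o ho, fun a ha => by
    calc o * a = (o * a)⁻¹ := (inv_eq_of_mul_eq_one_right (hOsq _ (mul_mem ho ha))).symm
      _ = a⁻¹ * o⁻¹ := mul_inv_rev o a
      _ = a * o := by
        rw [inv_eq_of_mul_eq_one_right (hOsq o ho), inv_eq_of_mul_eq_one_right (hOsq a ha)]⟩
  have hwV : w ∈ S.V := M.Z_V M.w_Z
  set w' := S.c * w * S.c⁻¹ with hw'
  have hw'V : w' ∈ S.V := S.V_conj S.c_mem hwV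
  have hww : w * w = 1 := hwV.2.1
  have hw'w' : w' * w' = 1 := hw'V.2.1
  have hcomm : w' * w = w * w' := S.V_comm hw'V hwV.1
  have hc2 : S.c * w' * S.c⁻¹ = w' * w := by
    calc S.c * w' * S.c⁻¹ = S.c * (w⁻¹ * (S.c⁻¹ * w * S.c)) * S.c⁻¹ := by rw [M.cinv, inv_mul_cancel_left]
      _ = w'⁻¹ * w := by rw [hw']; group
      _ = _ := by rw [S.V_inv hw'V]
  have hwU : w ∉ S.U := fun h => M.cw_ne (S.mem_U.1 h).2
  have hw'U : w' ∉ S.U := fun h => M.cw_out (M.U_le h)
  have hwwU : w * w' ∉ S.U := fun h => M.cw_out (by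
    have := mul_mem M.w_Z (M.U_le h)
    rwa [← mul_assoc, hww, one_mul] at this)
  -- the three non-trivial elements of `[V, c]`
  let W2 : Subgroup G :=
    { carrier := {x | x = 1 ∨ x = w ∨ x = w' ∨ x = w * w'}
      one_mem' := .inl rfl
      mul_mem' := by
        have l1 : ∀ b, w * (w * b) = b := fun b => by rw [← mul_assoc, hww, one_mul]
        have l2 : ∀ b, w' * (w' * b) = b := fun b => by rw [← mul_assoc, hw'w', one_mul]
        have l3 : ∀ b, w' * (w * b) = w * (w' * b) := fun b => by rw [← mul_assoc, hcomm, mul_assoc]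
        rintro a b (rfl | rfl | rfl | rfl) (rfl | rfl | rfl | rfl) <;>
          simp [mul_assoc, hww, hw'w', hcomm, l1, l2, l3]
      inv_mem' := by
        rintro a (rfl | rfl | rfl | rfl)
        · exact .inl inv_one
        · exact .inr (.inl (inv_eq_of_mul_eq_one_right hww))
        · exact .inr (.inr (.inl (inv_eq_of_mul_eq_one_right hw'w')))
        · refine .inr (.inr (.inr ?_))
          rw [mul_inv_rev, inv_eq_of_mul_eq_one_right hww, inv_eq_of_mul_eq_one_right hw'w', hcomm] }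
  have hW2V : W2 ≤ S.V := by
    rintro x (rfl | rfl | rfl | rfl)
    · exact one_mem _
    · exact hwV
    · exact hw'V
    · exact mul_mem hwV hw'V
  have hwW2 : w ∈ W2 := .inr (.inl rfl)
  have hw'W2 : w' ∈ W2 := .inr (.inr (.inl rfl))
  have hW2n : ∀ h ∈ S.H, cj h W2 = W2 := by
    have of_gen : ∀ g : G, g * w * g⁻¹ ∈ W2 → g * w' * g⁻¹ ∈ W2 → cj g W2 ≤ W2 := by
      rintro g h1 h2 _ ⟨x, hx, rfl⟩
      show g * x * g⁻¹ ∈ W2
      rcases hx with rfl | rfl | rfl | rfl
      · simp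
      · exact h1
      · exact h2
      · have := mul_mem h1 h2
        convert this using 1
        group
    refine S.cj_H_eq (cj_eq_of_le (of_gen _ hw'W2 ?_) (of_gen _ ?_ ?_)) fun p hp => ?_
    · rw [hc2, hcomm]; exact mul_mem hwW2 hw'W2
    · rw [inv_inv, M.cinv]; exact mul_mem hwW2 hw'W2
    · rw [inv_inv, hw']
      have e : S.c⁻¹ * (S.c * w * S.c⁻¹) * S.c = w := by group
      rw [e]; exact hwW2
    · have key : ∀ q ∈ S.P, cj q W2 ≤ W2 := by
        intro q hq
        refine of_gen q (by rw [S.Z_fix M.w_Z hq]; exact hwW2) ?_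
        by_cases hqO : q ∈ S.O
        · rw [S.O_fix hw'V hqO]; exact hw'W2
        · rw [M.act q hq hqO w' hw'V M.cw_out, hcomm]; exact mul_mem hwW2 hw'W2
      exact cj_eq_of_le (key p hp) (key _ (inv_mem hp))
  have hVdec : ∀ v ∈ S.V, ∃ a ∈ W2, a * v ∈ S.U := by
    intro v hv
    by_cases hvZ : v ∈ S.Z
    · rcases M.Z_eq v hvZ with h | h
      · exact ⟨1, one_mem _, by rwa [one_mul]⟩
      · exact ⟨w, hwW2, by rwa [S.V_comm hwV hv.1]⟩
    · rcases M.Z_eq _ (M.index w' hw'V v hv M.cw_out hvZ) with h | h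
      · exact ⟨w', hw'W2, h⟩
      · refine ⟨w * w', mul_mem hwW2 hw'W2, ?_⟩
        rwa [mul_assoc, S.V_comm hwV (mul_mem hw'V.1 hv.1)]
  -- the odd element inverted by `t`
  obtain ⟨o₁, ho₁, e₁⟩ := S.c_conj_out htP htO 1
  rw [pow_one] at e₁
  set d := t * (S.c * t * S.c⁻¹) with hd
  have hdo : d = o₁ * (S.c ^ 2)⁻¹ := by
    calc d = (t * S.c * t⁻¹) * (t * t) * S.c⁻¹ := by rw [hd]; group
      _ = o₁ * S.c⁻¹ * 1 * S.c⁻¹ := by rw [e₁, htt]
      _ = _ := by simp only [pow_two]; group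
  have hdr : d ∈ S.rot := by
    rw [hdo]; exact mul_mem (S.O_le_rot ho₁) (inv_mem (pow_mem S.c_mem_rot 2))
  set e := d * d with he
  have her : e ∈ S.rot := mul_mem hdr hdr
  have heH : e ∈ S.H := S.rot_le her
  have hen : e ^ S.n = 1 := by
    rw [he, ← pow_two, ← pow_mul, mul_comm, pow_mul, pow_two]
    exact hOsq _ (S.pow_n_mem hdr)
  have heodd : Odd (orderOf e) := Odd.of_dvd_nat S.n_odd (orderOf_dvd_of_pow_eq_one hen)
  have hte : t * e * t⁻¹ = e⁻¹ := by
    have h1 : t * d * t⁻¹ = d⁻¹ := by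
      rw [eq_inv_iff_mul_eq_one, hd]
      calc t * (t * (S.c * t * S.c⁻¹)) * t⁻¹ * (t * (S.c * t * S.c⁻¹))
          = (t * t) * (S.c * (t * t) * S.c⁻¹) := by group
        _ = 1 := by rw [htt]; group
    calc t * e * t⁻¹ = (t * d * t⁻¹) * (t * d * t⁻¹) := by rw [he]; group
      _ = e⁻¹ := by rw [h1, he]; group
  have hd_act : ∀ v ∈ S.V, d * v * d⁻¹ = (S.c ^ 2)⁻¹ * v * S.c ^ 2 := by
    intro v hv
    have h1 : (S.c ^ 2)⁻¹ * v * S.c ^ 2 ∈ S.V := by
      simpa using S.V_conj (inv_mem (pow_mem S.c_mem 2)) hv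
    calc d * v * d⁻¹ = o₁ * ((S.c ^ 2)⁻¹ * v * S.c ^ 2) * o₁⁻¹ := by rw [hdo]; group
      _ = _ := S.O_fix h1 ho₁
  have he_act : ∀ v ∈ S.V, e * v * e⁻¹ = S.c⁻¹ * v * S.c := by
    intro v hv
    have h1 : (S.c ^ 2)⁻¹ * v * S.c ^ 2 ∈ S.V := by
      simpa using S.V_conj (inv_mem (pow_mem S.c_mem 2)) hv
    calc e * v * e⁻¹ = d * (d * v * d⁻¹) * d⁻¹ := by rw [he]; group
      _ = (S.c ^ 2)⁻¹ * ((S.c ^ 2)⁻¹ * v * S.c ^ 2) * S.c ^ 2 := by rw [hd_act v hv, hd_act _ h1]
      _ = S.c⁻¹ * ((S.c ^ 3)⁻¹ * (v * S.c ^ 3)) * S.c := by simp only [pow_succ, pow_zero, one_mul]; group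
      _ = S.c⁻¹ * ((S.c ^ 3)⁻¹ * (S.c ^ 3 * v)) * S.c := by rw [(M.cube v hv).eq]
      _ = _ := by group
  have he3 : ∀ v ∈ S.V, Commute (e ^ 3) v := by
    intro v hv
    have hv1 : S.c⁻¹ * v * S.c ∈ S.V := by simpa using S.V_conj (inv_mem S.c_mem) hv
    have hv2 : S.c⁻¹ * (S.c⁻¹ * v * S.c) * S.c ∈ S.V := by
      simpa using S.V_conj (inv_mem S.c_mem) hv1
    have : e ^ 3 * v * (e ^ 3)⁻¹ = v := by
      calc e ^ 3 * v * (e ^ 3)⁻¹ = e * (e * (e * v * e⁻¹) * e⁻¹) * e⁻¹ := by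
            simp only [pow_succ, pow_zero, one_mul]; group
        _ = S.c⁻¹ * (S.c⁻¹ * (S.c⁻¹ * v * S.c) * S.c) * S.c := by
            rw [he_act v hv, he_act _ hv1, he_act _ hv2]
        _ = (S.c ^ 3)⁻¹ * (v * S.c ^ 3) := by simp only [pow_succ, pow_zero, one_mul]; group
        _ = v := by rw [← (M.cube v hv).eq]; group
    show e ^ 3 * v = v * e ^ 3
    conv_rhs => rw [← this]
    group
  -- the elements of `⟨e, t⟩` centralising `V` modulo `U`
  have hK : ∀ k : G, (k ∈ Subgroup.zpowers e ∨ k * t ∈ Subgroup.zpowers e) →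
      (∀ v ∈ W2, v * (k * v * k⁻¹) ∈ S.U) → ∃ q : ℕ, k = (e ^ 3) ^ q := by
    intro k hk hkU
    have heW : ∀ i : ℕ, (w * (e ^ i * w * (e ^ i)⁻¹) ∈ S.U) → ∃ q : ℕ, e ^ i = (e ^ 3) ^ q := by
      intro i hi
      refine ⟨i / 3, ?_⟩
      have hdm := Nat.div_add_mod i 3
      have hr : i % 3 = 0 := by
        by_contra hr
        have e1 : e ^ i * w * (e ^ i)⁻¹ = e ^ (i % 3) * w * (e ^ (i % 3))⁻¹ := by
          conv_lhs => rw [← hdm, add_comm, pow_add, pow_mul]
          have := ((he3 w hwV).pow_left (i / 3)).eq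
          calc _ = e ^ (i % 3) * (((e ^ 3) ^ (i / 3) * w) * ((e ^ 3) ^ (i / 3))⁻¹) * (e ^ (i % 3))⁻¹ := by group
            _ = _ := by rw [this]; group
        rw [e1] at hi
        have h12 : i % 3 = 1 ∨ i % 3 = 2 := by omega
        rcases h12 with h | h <;> rw [h] at hi
        · rw [pow_one, he_act w hwV, M.cinv, ← mul_assoc, hww, one_mul] at hi
          exact hw'U hi
        · have h' : w * w' ∈ S.V := mul_mem hwV hw'V
          have e2 : e ^ 2 * w * (e ^ 2)⁻¹ = S.c⁻¹ * (w * w') * S.c := by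
            calc e ^ 2 * w * (e ^ 2)⁻¹ = e * (e * w * e⁻¹) * e⁻¹ := by simp only [pow_two]; group
              _ = _ := by rw [he_act w hwV, M.cinv, he_act _ h']
          have e3 : S.c⁻¹ * (w * w') * S.c = w' := by
            calc S.c⁻¹ * (w * w') * S.c = (S.c⁻¹ * w * S.c) * (S.c⁻¹ * w' * S.c) := by group
              _ = w * w' * w := by rw [M.cinv]; congr 1; rw [hw']; group
              _ = w' := by rw [mul_assoc, hcomm, ← mul_assoc, hww, one_mul]
          rw [e2, e3] at hi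
          exact hwwU hi
      conv_lhs => rw [← hdm, hr, add_zero, pow_mul]
    rcases hk with hk | hk
    · obtain ⟨i, rfl⟩ := mem_powers_iff_mem_zpowers.2 hk
      exact heW i (hkU w hwW2)
    · obtain ⟨i, hi⟩ := mem_powers_iff_mem_zpowers.2 hk
      simp only at hi
      have hki : k = e ^ i * t := by rw [hi, mul_assoc, htt, mul_one]
      exfalso
      have h1 := hkU w hwW2
      have e1 : k * w * k⁻¹ = e ^ i * w * (e ^ i)⁻¹ := by
        calc k * w * k⁻¹ = e ^ i * (t * w * t⁻¹) * (e ^ i)⁻¹ := by rw [hki]; group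
          _ = _ := by rw [S.Z_fix M.w_Z htP]
      rw [e1] at h1
      obtain ⟨q, hq⟩ := heW i h1
      have h2 := hkU w' hw'W2
      have e2 : k * w' * k⁻¹ = w' * w := by
        calc k * w' * k⁻¹ = (e ^ 3) ^ q * (t * w' * t⁻¹) * ((e ^ 3) ^ q)⁻¹ := by rw [hki, hq]; group
          _ = w' * w := by
            rw [M.act t htP htO w' hw'V M.cw_out,
              ((he3 _ (mul_mem hw'V hwV)).pow_left q).eq]
            group
      rw [e2, ← mul_assoc, hw'w', one_mul] at h2
      exact hwU h2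
  -- inside `H`
  let e' : ↥S.H := ⟨e, heH⟩
  let t' : ↥S.H := ⟨t, S.P_le htP⟩
  let K : Subgroup G :=
    { carrier := {x | x ∈ Subgroup.zpowers e ∨ x * t ∈ Subgroup.zpowers e}
      one_mem' := .inl (one_mem _)
      mul_mem' := by
        have hflip : ∀ z ∈ Subgroup.zpowers e, t * z * t = z⁻¹ := by
          intro z hz
          obtain ⟨i, rfl⟩ := Subgroup.mem_zpowers_iff.1 hz
          conv_lhs => arg 2; rw [← inv_eq_of_mul_eq_one_right htt]
          rw [← conj_zpow, hte, inv_zpow]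
        rintro a b (ha | ha) (hb | hb)
        · exact .inl (mul_mem ha hb)
        · refine .inr ?_
          rw [mul_assoc]; exact mul_mem ha hb
        · refine .inr ?_
          have : a * b * t = (a * t) * (t * b * t) := by
            calc a * b * t = a * (t * t) * b * t := by rw [htt, mul_one]
              _ = _ := by group
          rw [this, hflip b hb]
          exact mul_mem ha (inv_mem hb)
        · refine .inl ?_
          have : a * b = (a * t) * (t * (b * t) * t) := by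
            calc a * b = a * (t * t) * b * (t * t) := by rw [htt, mul_one, mul_one]
              _ = _ := by group
          rw [this, hflip _ hb]
          exact mul_mem ha (inv_mem hb)
      inv_mem' := by
        rintro a (ha | ha)
        · exact .inl (inv_mem ha)
        · refine .inr ?_
          obtain ⟨i, hi⟩ := Subgroup.mem_zpowers_iff.1 ha
          have : a⁻¹ * t = a * t := by
            have h1 : t * e ^ i * t⁻¹ = (e ^ i)⁻¹ := by rw [← conj_zpow, hte, inv_zpow]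
            rw [hi] at h1
            calc a⁻¹ * t = t * (a * t)⁻¹ * t := by group
              _ = (t * (a * t) * t⁻¹)⁻¹ * (t * t) := by group
              _ = a * t := by rw [h1, inv_inv, htt, mul_one]
          rwa [this] }
  have heK : e ∈ K := .inl (Subgroup.mem_zpowers e)
  have htK : t ∈ K := .inr (by rw [htt]; exact one_mem _)
  have hKH : K ≤ S.H := by
    rintro x (hx | hx)
    · exact Subgroup.zpowers_le.2 heH hx
    · have := mul_mem (Subgroup.zpowers_le.2 heH hx) (inv_mem (S.P_le htP))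
      simpa using this
  have hOK : S.O ⊓ K = ⊥ := by
    rw [eq_bot_iff]
    rintro x ⟨hxO, hx | hx⟩
    · rw [Subgroup.mem_bot]
      obtain ⟨i, rfl⟩ := mem_powers_iff_mem_zpowers.2 hx
      refine eq_one_of_odd_two heodd ?_ (i := 1) ?_
      · rw [← pow_mul, mul_comm, pow_mul, pow_orderOf_eq_one, one_pow]
      · rw [pow_one, pow_two]; exact hOsq _ hxO
    · exfalso
      refine S.not_mem_rot htP htO ?_
      have := mul_mem (inv_mem (S.O_le_rot hxO)) (Subgroup.zpowers_le.2 her hx)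
      rwa [inv_mul_cancel_left] at this
  let O' : Subgroup ↥S.H := S.O.subgroupOf S.H
  let K' : Subgroup ↥S.H := K.subgroupOf S.H
  let U' : Subgroup ↥S.H := S.U.subgroupOf S.H
  let W' : Subgroup ↥S.H := W2.subgroupOf S.H
  let R : Subgroup ↥S.H := Subgroup.zpowers (e' ^ 3)
  haveI hO'n : O'.Normal := ⟨fun x hx g => S.O_conj g.2 hx⟩
  haveI hU'n : U'.Normal := ⟨fun x hx g => (U_normal M g g.2).le (conj_mem_cj hx)⟩
  haveI hW'n : W'.Normal := ⟨fun x hx g => (hW2n g g.2).le (conj_mem_cj hx)⟩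
  have hUV : S.U ≤ S.V := inf_le_left
  have hgen : O' ⊔ K' = ⊤ := by
    rw [eq_top_iff]
    rintro ⟨h, hh⟩ -
    obtain ⟨k, p, hp, rfl⟩ := S.decomp h hh
    have h4 : (⟨S.c, S.c_mem⟩ : ↥S.H) ^ 4 ∈ O' ⊔ K' := by
      have hx : (S.c ^ 4) * e ∈ S.O := by
        have : S.c ^ 4 * e = (S.c ^ 4 * o₁ * (S.c ^ 4)⁻¹) * (S.c ^ 2 * o₁ * (S.c ^ 2)⁻¹) := by
          rw [he, hdo]; simp only [pow_succ, pow_zero, one_mul]; group
        rw [this]
        exact mul_mem (S.O_conj (pow_mem S.c_mem 4) ho₁) (S.O_conj (pow_mem S.c_mem 2) ho₁)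
      have e4 : (⟨S.c, S.c_mem⟩ : ↥S.H) ^ 4 =
          ⟨S.c ^ 4 * e, mul_mem (pow_mem S.c_mem 4) heH⟩ * e'⁻¹ :=
        Subtype.ext (show S.c ^ 4 = S.c ^ 4 * e * e⁻¹ by group)
      rw [e4]
      exact Subgroup.mul_mem_sup hx (inv_mem (show e' ∈ K' from heK))
    have hc1 : (⟨S.c, S.c_mem⟩ : ↥S.H) ∈ O' ⊔ K' := by
      have hodd : Odd (orderOf (⟨S.c, S.c_mem⟩ : ↥S.H)) := by
        rw [Subgroup.orderOf_mk]; exact S.c_odd
      obtain ⟨m, hm⟩ := exists_pow_sq hodd
      rw [← hm]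
      refine pow_mem ?_ m
      conv => arg 2; rw [← hm]
      rw [← pow_mul, ← pow_mul, show 2 * (m * 2) = 4 * m by ring, pow_mul]
      exact pow_mem h4 m
    have hp1 : (⟨p, S.P_le hp⟩ : ↥S.H) ∈ O' ⊔ K' := by
      by_cases hpO : p ∈ S.O
      · exact Subgroup.mem_sup_left (show (⟨p, S.P_le hp⟩ : ↥S.H) ∈ O' from hpO)
      · have e5 : (⟨p, S.P_le hp⟩ : ↥S.H) = ⟨p * t, mul_mem (S.P_le hp) (S.P_le htP)⟩ * t' :=
          Subtype.ext (show p = p * t * t by rw [mul_assoc, htt, mul_one])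
        rw [e5]
        exact Subgroup.mul_mem_sup (S.P_two p hp t htP hpO htO) (show t' ∈ K' from htK)
    exact mul_mem (pow_mem hc1 k) hp1
  have hdisjOK : O' ⊓ K' = ⊥ := by
    rw [eq_bot_iff]
    intro x hx
    have : (x : G) ∈ S.O ⊓ K := hx
    rw [hOK, Subgroup.mem_bot] at this
    exact Subtype.ext this
  have hdecG : ∀ g : ↥S.H, ∃ o ∈ O', ∃ k ∈ K', o * k = g := fun g => by
    have := hgen.ge (Subgroup.mem_top g)
    rwa [Subgroup.mem_sup_of_normal_left] at this
  have hOcard : O'.IsComplement' K' :=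
    Subgroup.isComplement'_of_disjoint_and_mul_eq_univ (disjoint_iff.2 hdisjOK)
      (Set.eq_univ_iff_forall.2 fun g => hdecG g)
  have hUWO : ∀ o ∈ O', ∃ u ∈ U', ∃ a ∈ W', u * a = o := by
    rintro ⟨o, hoH⟩ ho
    obtain ⟨a, ha, hau⟩ := hVdec o (hOV ho)
    refine ⟨⟨a * o, S.O_le_H (hUV hau).1⟩, hau, ⟨a, S.O_le_H (hW2V ha).1⟩, ha, Subtype.ext ?_⟩
    show a * o * a = o
    rw [S.V_comm (hW2V ha) (show o ∈ S.O from ho), mul_assoc, (hW2V ha).2.1, mul_one]
  have hUW : U' ⊓ W' = ⊥ := by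
    rw [eq_bot_iff]
    rintro x ⟨hxU, (h | h | h | h)⟩
    · exact Subtype.ext h
    · exact absurd (h ▸ hxU) hwU
    · exact absurd (h ▸ hxU) hw'U
    · exact absurd (h ▸ hxU) hwwU
  have hUle : U' ≤ O' := fun x hx => (hUV hx).1
  have hWle : W' ≤ O' := fun x hx => (hW2V hx).1
  have hcardW : Nat.card W' = 4 := by
    rw [Nat.card_congr (Subgroup.subgroupOfEquivOfLe (hW2V.trans (S.V_le.trans S.O_le_H))).toEquiv]
    classical
    have h : (W2 : Set G) = ↑({1, w, w', w * w'} : Finset G) := by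
      ext x; simp [W2]
    rw [← SetLike.coe_sort_coe, Nat.card_coe_set_eq, h, Set.ncard_coe_finset]
    have d1 : w ≠ 1 := M.w_ne
    have d2 : w' ≠ 1 := fun h => hw'U (h ▸ one_mem _)
    have d3 : w * w' ≠ 1 := fun h => hwwU (h ▸ one_mem _)
    have d4 : w ≠ w' := fun h => d3 (by rw [← h, hww])
    have d5 : w ≠ w * w' := fun h => d2 (by simpa using h.symm)
    have d6 : w' ≠ w * w' := fun h => d1 (by simpa using h.symm)
    rw [Finset.card_insert_of_notMem, Finset.card_insert_of_notMem, Finset.card_insert_of_notMem,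
      Finset.card_singleton] <;> simp [d1.symm, d2.symm, d3.symm, d4, d5, d6]
  -- the two subgroups
  let M4 : Subgroup ↥S.H := U' ⊔ K'
  let N2 : Subgroup ↥S.H := W' ⊔ K'
  have hWM : W'.IsComplement' M4 := by
    refine Subgroup.isComplement'_of_disjoint_and_mul_eq_univ (disjoint_iff.2 ?_)
      (Set.eq_univ_iff_forall.2 fun g => ?_)
    · rw [eq_bot_iff]
      rintro x ⟨hxW, hxM⟩
      replace hxM : x ∈ U' ⊔ K' := hxM
      rw [Subgroup.mem_sup_of_normal_left] at hxM
      obtain ⟨u, hu, k, hk, rfl⟩ := hxM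
      have hk1 : k = 1 := by
        have h1 : k ∈ O' ⊓ K' := ⟨by simpa using mul_mem (inv_mem (hUle hu)) (hWle hxW), hk⟩
        rwa [hdisjOK, Subgroup.mem_bot] at h1
      rw [hk1, mul_one] at hxW ⊢
      exact hUW.le ⟨hu, hxW⟩
    · obtain ⟨o, ho, k, hk, rfl⟩ := hdecG g
      obtain ⟨u, hu, a, ha, rfl⟩ := hUWO o ho
      refine ⟨u * a * u⁻¹, ?_, u * k, Subgroup.mul_mem_sup hu hk, by group⟩
      exact hW'n.conj_mem a ha u
  have hUN : U'.IsComplement' N2 := by
    refine Subgroup.isComplement'_of_disjoint_and_mul_eq_univ (disjoint_iff.2 ?_)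
      (Set.eq_univ_iff_forall.2 fun g => ?_)
    · rw [eq_bot_iff]
      rintro x ⟨hxU, hxN⟩
      replace hxN : x ∈ W' ⊔ K' := hxN
      rw [Subgroup.mem_sup_of_normal_left] at hxN
      obtain ⟨a, ha, k, hk, rfl⟩ := hxN
      have hk1 : k = 1 := by
        have h1 : k ∈ O' ⊓ K' := ⟨by simpa using mul_mem (inv_mem (hWle ha)) (hUle hxU), hk⟩
        rwa [hdisjOK, Subgroup.mem_bot] at h1
      rw [hk1, mul_one] at hxU ⊢
      exact hUW.le ⟨hxU, ha⟩
    · obtain ⟨o, ho, k, hk, rfl⟩ := hdecG g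
      obtain ⟨u, hu, a, ha, rfl⟩ := hUWO o ho
      exact ⟨u, hu, a * k, Subgroup.mul_mem_sup ha hk, by group⟩
  have hRK : R ≤ K' := Subgroup.zpowers_le.2 (pow_mem (show e' ∈ K' from heK) 3)
  haveI hRn : R.Normal := by
    rw [← Subgroup.normalizer_eq_top_iff, eq_top_iff, ← hgen]
    refine sup_le (fun x hx => ?_) (fun x hx => ?_)
    · rw [Subgroup.mem_normalizer_iff]
      have hc : ∀ z ∈ R, x * z * x⁻¹ = z := by
        intro z hz
        obtain ⟨i, rfl⟩ := Subgroup.mem_zpowers_iff.1 hz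
        have : Commute x (e' ^ 3) := Subtype.ext ((he3 _ (hOV hx)).symm.eq)
        rw [(this.zpow_right i).eq]; group
      intro z
      constructor
      · intro hz; rwa [hc z hz]
      · intro hz
        have : x * z * x⁻¹ = z := by
          calc x * z * x⁻¹ = x⁻¹ * (x * (x * z * x⁻¹) * x⁻¹) * x := by group
            _ = x⁻¹ * (x * z * x⁻¹) * x := by rw [hc _ hz]
            _ = z := by group
        rwa [this] at hz
    · have key : ∀ y ∈ K', ∀ z ∈ R, y * z * y⁻¹ ∈ R := by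
        intro y hy z hz
        obtain ⟨i, rfl⟩ := Subgroup.mem_zpowers_iff.1 hz
        rw [← conj_zpow]
        refine zpow_mem ?_ i
        rcases hy with hy | hy
        · obtain ⟨j, hj⟩ := Subgroup.mem_zpowers_iff.1 hy
          have hj' : (y : G) = e ^ j := hj.symm
          have : y * e' ^ 3 * y⁻¹ = e' ^ 3 := Subtype.ext (show (y : G) * e ^ 3 * (y : G)⁻¹ = e ^ 3 by
            rw [hj']; group)
          rw [this]; exact Subgroup.mem_zpowers _
        · obtain ⟨j, hj⟩ := Subgroup.mem_zpowers_iff.1 hy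
          have : y * e' ^ 3 * y⁻¹ = (e' ^ 3)⁻¹ := Subtype.ext (show (y : G) * e ^ 3 * (y : G)⁻¹ = (e ^ 3)⁻¹ by
            calc (y : G) * e ^ 3 * (y : G)⁻¹ = ((y : G) * t) * (t⁻¹ * e ^ 3 * t) * ((y : G) * t)⁻¹ := by group
              _ = e ^ j * (e ^ 3)⁻¹ * (e ^ j)⁻¹ := by
                  rw [show (y : G) * t = e ^ j from hj.symm, inv_eq_of_mul_eq_one_right htt, ← inv_pow, ← hte, conj_pow,
                    inv_eq_of_mul_eq_one_right htt]
              _ = _ := by group)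
          rw [this]; exact inv_mem (Subgroup.mem_zpowers _)
      rw [Subgroup.mem_normalizer_iff]
      intro z
      refine ⟨key x hx z, fun hz => ?_⟩
      have := key x⁻¹ (inv_mem hx) _ hz
      convert this using 1
      group
  have hcent : ∀ q : ↥S.H, (∀ a ∈ W', (a : G) * ((q : G) * a * (q : G)⁻¹) ∈ S.U) →
      ∃ o ∈ O', ∃ r ∈ R, o * r = q := by
    intro q hq
    obtain ⟨o, ho, k, hk, rfl⟩ := hdecG q
    refine ⟨o, ho, k, ?_, rfl⟩
    obtain ⟨i, hi⟩ := hK (k : G) hk fun v hv => by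
      have := hq ⟨v, S.O_le_H (hW2V hv).1⟩ hv
      have h1 : (k : G) * v * (k : G)⁻¹ ∈ S.V := S.V_conj k.2 (hW2V hv)
      convert this using 2
      show _ = (o : G) * k * v * ((o : G) * k)⁻¹
      conv_lhs => rw [← S.O_fix h1 (show (o : G) ∈ S.O from ho)]
      group
    exact Subgroup.mem_zpowers_iff.2 ⟨(i : ℤ), Subtype.ext (by simpa using hi.symm)⟩
  have hcore : Cfsg.oddCore ↥S.H = R := by
    refine le_antisymm (fun q hq => ?_) (CfsgLib.PCore.le_pPrimeCore hRn ?_)
    · haveI := Cfsg.pPrimeCore_normal 2 ↥S.H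
      have hcm : ∀ a ∈ O', q * a = a * q := by
        intro a ha
        have h1 : q * a * q⁻¹ * a⁻¹ ∈ Cfsg.oddCore ↥S.H := by
          have := mul_mem hq (Subgroup.Normal.conj_mem inferInstance _ (inv_mem hq) a)
          convert this using 1
          group
        have h2 : q * a * q⁻¹ * a⁻¹ ∈ O' := mul_mem (hO'n.conj_mem a ha q) (inv_mem ha)
        have h3 : q * a * q⁻¹ * a⁻¹ = 1 := by
          refine eq_one_of_odd_two (Nat.coprime_two_right.1 CfsgLib.PCore.pPrimeCore_coprime)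
            (congrArg Subtype.val (pow_card_eq_one' (x := (⟨_, h1⟩ : Cfsg.oddCore ↥S.H))))
            (i := 1) ?_
          rw [pow_one, pow_two]
          exact Subtype.ext (hOsq _ h2)
        calc q * a = q * a * q⁻¹ * a⁻¹ * (a * q) := by group
          _ = _ := by rw [h3, one_mul]
      obtain ⟨o, ho, r, hr, rfl⟩ := hcent q fun a ha => by
        have e6 := congrArg Subtype.val (hcm a (hWle ha))
        simp only [Subgroup.coe_mul] at e6
        have e7 : ((q : ↥S.H) : G) * a * ((q : ↥S.H) : G)⁻¹ = a := by rw [e6]; group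
        rw [e7, (show (a : G) ∈ S.V from hW2V ha).2.1]
        exact one_mem _
      have h1 : orderOf (o * r) ∣ Nat.card (Cfsg.oddCore ↥S.H) := by
        rw [← Subgroup.orderOf_mk (o * r) hq]; exact orderOf_dvd_natCard _
      have h2 : Odd (orderOf (o * r)) := Nat.coprime_two_right.1
        (CfsgLib.PCore.pPrimeCore_coprime.coprime_dvd_left h1)
      have hor : Commute o r := by
        obtain ⟨i, rfl⟩ := Subgroup.mem_zpowers_iff.1 hr
        exact (show Commute o (e' ^ 3) from Subtype.ext ((he3 _ (hOV ho)).symm.eq)).zpow_right i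
      have h3 := pow_orderOf_eq_one (o * r)
      rw [hor.mul_pow] at h3
      have h4 : o ^ orderOf (o * r) ∈ O' ⊓ K' :=
        Subgroup.mem_inf.2 ⟨pow_mem ho _, by
          rw [eq_inv_of_mul_eq_one_left h3]; exact inv_mem (pow_mem (hRK hr) _)⟩
      rw [hdisjOK, Subgroup.mem_bot] at h4
      have ho1 : o = 1 := eq_one_of_odd_two h2 h4 (i := 1) (by
        rw [pow_one, pow_two]; exact Subtype.ext (hOsq _ ho))
      rw [ho1, one_mul]; exact hr
    · rw [Nat.card_zpowers, ← Subgroup.orderOf_coe]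
      exact Nat.coprime_two_right.2 (Odd.of_dvd_nat heodd (orderOf_pow_dvd 3))
  -- the homomorphism
  have hM4i : M4.index = 4 := hWM.index_eq_card.trans hcardW
  have hN2i : N2.index = Nat.card U' := hUN.index_eq_card
  have hU2 : Nat.card U' = 1 ∨ Nat.card U' = 2 := by
    by_cases hU : ∀ u ∈ U', u = 1
    · left; rw [(Subgroup.eq_bot_iff_forall _).2 hU, Subgroup.card_bot]
    · right
      push_neg at hU
      obtain ⟨u, hu, hu1⟩ := hU
      rw [Nat.card_eq_two_iff' (1 : U')]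
      refine ⟨⟨u, hu⟩, fun h => hu1 (congrArg Subtype.val h), ?_⟩
      rintro ⟨v, hv⟩ hv1
      exact Subtype.ext (Subtype.ext (M.U_two _ hv _ hu (fun h => hv1 (Subtype.ext (Subtype.ext h)))
        (fun h => hu1 (Subtype.ext h))))
  haveI hN2n : N2.Normal := by
    rcases hU2 with h | h
    · rw [Subgroup.index_eq_one.1 (hN2i.trans h)]; infer_instance
    · exact Subgroup.normal_of_index_eq_two (hN2i.trans h)
  have hcardH : Nat.card (↥S.H ⧸ R) = Nat.card U' * 24 := by
    have h1 := hOcard.card_mul_card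
    have h2 : Nat.card O' = 4 * Nat.card U' := by
      have h3 := hWM.card_mul_card
      rw [hcardW] at h3
      have hcM : Nat.card M4 = Nat.card U' * Nat.card K' := by
        have : (U'.subgroupOf M4).IsComplement' (K'.subgroupOf M4) := by
          refine Subgroup.isComplement'_of_disjoint_and_mul_eq_univ (disjoint_iff.2 ?_)
            (Set.eq_univ_iff_forall.2 fun g => ?_)
          · rw [eq_bot_iff]
            rintro x ⟨hxU, hxK⟩
            exact Subtype.ext (hdisjOK.le ⟨hUle hxU, hxK⟩)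
          · obtain ⟨u, hu, k, hk, huk⟩ := Subgroup.mem_sup_of_normal_left.1 g.2
            exact ⟨⟨u, Subgroup.mem_sup_left hu⟩, hu, ⟨k, Subgroup.mem_sup_right hk⟩, hk,
              Subtype.ext huk⟩
        rw [← this.card_mul_card,
          Nat.card_congr (Subgroup.subgroupOfEquivOfLe (le_sup_left : U' ≤ M4)).toEquiv,
          Nat.card_congr (Subgroup.subgroupOfEquivOfLe (le_sup_right : K' ≤ M4)).toEquiv]
      rw [hcM, ← h1, ← mul_assoc] at h3
      exact (Nat.eq_of_mul_eq_mul_right Nat.card_pos h3).symm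
    have hKc : Nat.card K' = 2 * orderOf e := by
      rw [Nat.card_congr (Subgroup.subgroupOfEquivOfLe hKH).toEquiv,
        ← Subgroup.index_mul_card ((Subgroup.zpowers e).subgroupOf K),
        Nat.card_congr (Subgroup.subgroupOfEquivOfLe (show Subgroup.zpowers e ≤ K from
          fun x hx => Or.inl hx)).toEquiv, Nat.card_zpowers]
      congr 1
      rw [Subgroup.index_eq_two_iff]
      refine ⟨⟨t, htK⟩, fun b => ?_⟩
      simp only [Subgroup.mem_subgroupOf, Subgroup.coe_mul]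
      have htz : t ∉ Subgroup.zpowers e := fun h =>
        S.not_mem_rot htP htO (Subgroup.zpowers_le.2 her h)
      by_cases hb : (b : G) ∈ Subgroup.zpowers e
      · exact .inr ⟨hb, fun h => htz (by simpa using mul_mem (inv_mem hb) h)⟩
      · exact .inl ⟨b.2.resolve_left hb, hb⟩
    have hRc : Nat.card R = orderOf e / 3 ∧ 3 ∣ orderOf e := by
      have h3 : 3 ∣ orderOf e := by
        by_contra hndvd
        have hcop : (3 : ℕ).Coprime (orderOf e) := Nat.prime_three.coprime_iff_not_dvd.2 hndvd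
        obtain ⟨m, hm⟩ := exists_pow_eq_self_of_coprime (x := e) hcop
        have h1 : Commute e w := hm ▸ (he3 w hwV).pow_left m
        have h2 : S.c⁻¹ * w * S.c = w := by rw [← he_act w hwV, h1.eq]; group
        rw [M.cinv, mul_eq_left] at h2
        apply hw'U
        rw [show w' = 1 from h2]
        exact one_mem _
      refine ⟨?_, h3⟩
      rw [Nat.card_zpowers, ← Subgroup.orderOf_coe]
      show orderOf (e ^ 3) = _
      rw [orderOf_pow' e (by norm_num : (3 : ℕ) ≠ 0), Nat.gcd_eq_right h3]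
    have h4 := Subgroup.card_eq_card_quotient_mul_card_subgroup R
    obtain ⟨hR1, r, hr⟩ := hRc
    rw [hr, Nat.mul_div_cancel_left r (by norm_num : 0 < 3)] at hR1
    have hrpos : 0 < r := by rw [← hR1]; exact Nat.card_pos
    rw [← h1, h2, hKc, hr, hR1] at h4
    refine Nat.eq_of_mul_eq_mul_right hrpos ?_
    rw [← h4]; ring
  let φ : ↥S.H →* Equiv.Perm (↥S.H ⧸ M4) := MulAction.toPermHom _ _
  have hφ : φ.ker = M4.normalCore := M4.normalCore_eq_ker.symm
  let Φ : ↥S.H →* Equiv.Perm (↥S.H ⧸ M4) × (↥S.H ⧸ N2) := φ.prod (QuotientGroup.mk' N2)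
  have hker : Φ.ker = R := by
    rw [MonoidHom.ker_prod, hφ, QuotientGroup.ker_mk']
    refine le_antisymm ?_ (le_inf (Subgroup.normal_le_normalCore.2 (hRK.trans le_sup_right))
      (hRK.trans le_sup_right))
    rintro x ⟨hxc, hxN⟩
    obtain ⟨u, hu, k, hk, rfl⟩ :=
      Subgroup.mem_sup_of_normal_left.1 (Subgroup.normalCore_le M4 hxc)
    obtain ⟨o, ho, r, hr, hor⟩ := hcent (u * k) fun a ha => by
      have h2 : (a * (u * k) * a⁻¹) * (u * k)⁻¹ ∈ M4 :=
        mul_mem (Subgroup.normalCore_le M4 ((inferInstance : M4.normalCore.Normal).conj_mem _ hxc a))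
          (inv_mem (Subgroup.normalCore_le M4 hxc))
      have h3 : (a * (u * k) * a⁻¹) * (u * k)⁻¹ ∈ O' := by
        have := mul_mem (hWle ha) (hO'n.conj_mem _ (inv_mem (hWle ha)) (u * k))
        convert this using 1
        group
      obtain ⟨u', hu', k', hk', e8⟩ := Subgroup.mem_sup_of_normal_left.1 h2
      have hk1 : k' = 1 := by
        have h4 : k' ∈ O' ⊓ K' := ⟨by
          have := mul_mem (inv_mem (hUle hu')) h3
          rwa [← e8, inv_mul_cancel_left] at this, hk'⟩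
        rwa [hdisjOK, Subgroup.mem_bot] at h4
      rw [hk1, mul_one] at e8
      have h5 : ((u * k : ↥S.H) : G) * (a : G)⁻¹ * ((u * k : ↥S.H) : G)⁻¹ =
          (((u * k : ↥S.H) : G) * (a : G) * ((u * k : ↥S.H) : G)⁻¹) := by
        rw [S.V_inv (show (a : G) ∈ S.V from hW2V ha)]
      rw [← h5]
      have h6 : ((u' : ↥S.H) : G) ∈ S.U := hu'
      rw [e8] at h6
      simp only [Subgroup.coe_mul, Subgroup.coe_inv] at h6 ⊢
      convert h6 using 1
      group
    -- split off the central part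
    have hk' : k ∈ R := by
      have h1 : o⁻¹ * u ∈ O' ⊓ K' := Subgroup.mem_inf.2 ⟨mul_mem (inv_mem ho) (hUle hu), by
        have e9 : o⁻¹ * u = r * k⁻¹ := by
          calc o⁻¹ * u = o⁻¹ * (u * k) * k⁻¹ := by group
            _ = _ := by rw [← hor]; group
        rw [e9]; exact mul_mem (hRK hr) (inv_mem hk)⟩
      rw [hdisjOK, Subgroup.mem_bot, inv_mul_eq_one] at h1
      subst h1
      rwa [mul_left_cancel hor] at hr
    obtain ⟨a, ha, k₂, hk₂, e10⟩ := Subgroup.mem_sup_of_normal_left.1 hxN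
    have hua : u = a := by
      have h1 : a⁻¹ * u ∈ O' ⊓ K' := Subgroup.mem_inf.2 ⟨mul_mem (inv_mem (hWle ha)) (hUle hu), by
        have e9 : a⁻¹ * u = k₂ * k⁻¹ := by
          calc a⁻¹ * u = a⁻¹ * (u * k) * k⁻¹ := by group
            _ = _ := by rw [← e10]; group
        rw [e9]; exact mul_mem hk₂ (inv_mem hk)⟩
      rw [hdisjOK, Subgroup.mem_bot, inv_mul_eq_one] at h1
      exact h1.symm
    have hu1 : u = 1 := by
      have := hUW.le ⟨hu, hua ▸ ha⟩
      rwa [Subgroup.mem_bot] at this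
    rw [hu1, one_mul]; exact hk'
  have hperm : Equiv.Perm (↥S.H ⧸ M4) ≃* Equiv.Perm (Fin 4) :=
    (Finite.equivFinOfCardEq hM4i).permCongrHom
  have hcardPerm : Nat.card (Equiv.Perm (↥S.H ⧸ M4)) = 24 := by
    rw [Nat.card_congr hperm.toEquiv, Nat.card_eq_fintype_card, Fintype.card_perm, Fintype.card_fin]
    rfl
  have hcardProd : Nat.card (Equiv.Perm (↥S.H ⧸ M4) × (↥S.H ⧸ N2)) = Nat.card U' * 24 := by
    rw [Nat.card_prod, hcardPerm, ← Subgroup.index_eq_card, hN2i, mul_comm]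
  let ψ := QuotientGroup.kerLift Φ
  have hψ : Function.Bijective ψ := (Nat.bijective_iff_injective_and_card _).2
    ⟨QuotientGroup.kerLift_injective Φ, by
      rw [hcardProd, ← hcardH]
      exact Nat.card_congr (QuotientGroup.quotientMulEquivOfEq hker).toEquiv⟩
  have e0 : ↥S.H ⧸ Cfsg.oddCore ↥S.H ≃* Equiv.Perm (↥S.H ⧸ M4) × (↥S.H ⧸ N2) :=
    (QuotientGroup.quotientMulEquivOfEq (hcore.trans hker.symm)).trans (MulEquiv.ofBijective ψ hψ)
  have hcO : Nat.card S.O = 4 * Nat.card U' := by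
    rw [← Nat.card_congr (Subgroup.subgroupOfEquivOfLe S.O_le_H).toEquiv]
    have : (W'.subgroupOf O').IsComplement' (U'.subgroupOf O') := by
      refine Subgroup.isComplement'_of_disjoint_and_mul_eq_univ (disjoint_iff.2 ?_)
        (Set.eq_univ_iff_forall.2 fun g => ?_)
      · rw [eq_bot_iff]
        rintro x ⟨hxW, hxU⟩
        exact Subtype.ext (hUW.le ⟨hxU, hxW⟩)
      · obtain ⟨u, hu, a, ha, hua⟩ := hUWO g g.2
        refine ⟨⟨u * a * u⁻¹, hWle (hW'n.conj_mem a ha u)⟩, hW'n.conj_mem a ha u, ⟨u, hUle hu⟩, hu,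
          Subtype.ext ?_⟩
        show u * a * u⁻¹ * u = (g : ↥S.H)
        rw [← hua]; group
    rw [← this.card_mul_card, Nat.card_congr (Subgroup.subgroupOfEquivOfLe hWle).toEquiv,
      Nat.card_congr (Subgroup.subgroupOfEquivOfLe hUle).toEquiv, hcardW]
  refine ⟨?_, ?_⟩
  · rw [S.card_P, hcO]
    rcases hU2 with h | h <;> simp [h]
  rcases hU2 with h | h
  · right; left
    haveI : Subsingleton (↥S.H ⧸ N2) :=
      (Nat.card_eq_one_iff_unique.1 ((Subgroup.index_eq_card N2).symm.trans (hN2i.trans h))).1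
    haveI : Unique (↥S.H ⧸ N2) := uniqueOfSubsingleton 1
    exact ⟨(e0.trans MulEquiv.prodUnique).trans hperm⟩
  · right; right
    haveI : Fact (Nat.Prime 2) := ⟨Nat.prime_two⟩
    exact ⟨e0.trans (hperm.prodCongr (mulEquivOfPrimeCardEq (p := 2)
      ((Subgroup.index_eq_card N2).symm.trans (hN2i.trans h)) (by simp)))⟩

theorem concl [Finite G] : S.Concl := by
  by_cases h : S.CommC
  · exact S.concl_of_commC h
  · exact S.concl_of_not_commC h

end Setting

end CfsgLib.Push85
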